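import Mathlib
import Cfsg.Agent.Spor.SteinerCert

/-!
# The certificates for `S(4, 5, 11)` and `S(5, 6, 12)`
-/

set_option autoImplicit false
set_option maxRecDepth 100000

namespace Cfsg.Agent.Spor.SC

/-- The blocks of the standard `S(4, 5, 11)`. -/
def L11 : List ℕ :=
  [31, 103, 124, 171, 182, 205, 218, 241, 309, 314, 334, 339, 361, 391, 409, 428, 468, 482, 558,
  569, 587, 597, 626, 659, 668, 677, 710, 744, 781, 790, 803, 856, 868, 906, 944, 961, 1069, 1075,
  1110, 1113, 1130, 1166, 1173, 1208, 1219, 1252, 1291, 1308, 1318, 1349, 1392, 1426, 1441, 1480,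
  1543, 1562, 1588, 1612, 1633, 1673, 1698, 1744, 1809, 1832, 1858, 1924]

/-- The uniqueness certificate. -/
def C11 : Cert :=
  (.split 31 (.split 103 (.split 391 (.split 1543 (.split 171 (.split 587 (.split 1291 (.split 1075
  (.split 803 (.split 339 (.split 659 (.split 1219 (.split 868 (.split 124 (.split 1252 (.split 361
  (.split 781 (.split 1069 (.split 205 (.split 309 (.split 1173 (.split 597 (.split 677 (.split 1349
  (.split 569 (.split 1113 (.split 409 (.split 1673 (.split 241 (.split 1809 (.split 1633 (.split
  1441 (.split 961 (.split 182 (.split 1110 (.split 334 (.split 558 (.split 1166 (.split 790 (.split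
  1318 (.split 710 (.split 314 (.split 218 (.split 1562 (.split 1130 (.split 906 (.split 626 (.split
  1426 (.split 482 (.split 1698 (.split 1858 (.split 668 (.split 1308 (.split 428 (.split 1612
  (.split 1588 (.split 468 (.split 1924 (.split 1208 (.split 856 (.split 744 (.split 1832 (.split
  1480 (.split 1392 (.split 944 (.split 1744 .done (.close 720)) (.close 432)) (.close 368)) (.close
  456)) (.close 808)) (.close 232)) (.close 344)) (.close 184)) (.close 900)) (.close 212)) (.close
  564)) (.close 588)) (.close 172)) (.close 284)) (.close 156)) (.close 834)) (.close 674)) (.close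
  226)) (.close 402)) (.close 114)) (.close 394)) (.close 106)) (.close 538)) (.close 90)) (.close
  58)) (.close 198)) (.close 294)) (.close 278)) (.close 142)) (.close 46)) (.close 78)) (.close
  86)) (.close 166)) (.close 449)) (.close 417)) (.close 609)) (.close 785)) (.close 113)) (.close
  649)) (.close 153)) (.close 89)) (.close 57)) (.close 325)) (.close 165)) (.close 85)) (.close
  149)) (.close 293)) (.close 77)) (.close 45)) (.close 269)) (.sym 1129 9322585403920 361 (.close
  105))) (.close 228)) (.split 1132 (.split 1165 (.close 1038) (.close 1037)) (.split 236 (.split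
  1140 (.split 333 (.close 1093) (.split 1101 (.close 325) (.close 77))) (.close 116)) (.close
  108)))) (.sym 1828 6982132314640 868 (.sym 932 8269600141840 868 (.split 820 (.split 181 (.close
  54) (.close 53)) (.split 812 (.split 1069 (.close 46) (.close 45)) (.close 804)))))) (.close 195))
  (.close 147)) (.close 275)) (.close 291)) (.close 1059)) (.close 267)) (.sym 779 11640845382160
  587 (.close 523))) (.sym 1067 8291808981520 171 (.sym 555 9322601132560 171 (.sym 299
  11645910004240 171 (.close 43))))) (.close 519)) (.sym 1159 9523927724560 391 (.sym 647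
  11585512026640 391 (.close 135)))) (.sym 1063 7325189681680 103 (.sym 551 11448358285840 103 (.sym
  295 11641631814160 103 (.sym 167 11649684877840 103 (.close 39)))))) (.sym 1039 5126167540240 31
  (.sym 527 11310920446480 31 (.sym 271 11633042993680 31 (.sym 143 11649149121040 31 (.sym 79
  11649904095760 31 (.sym 47 11649935553040 31 (.close 15))))))))

theorem check11 : check 4 11 L11 C11 [] [] = true := by decide +kernel

theorem covers11 : covers 4 11 L11 = true := by decide +kernel

theorem rigid11 : rigid 11 L11 7 4 12816 = true := by decide +kernel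

theorem L11_lt : ∀ k ∈ L11, k < 2 ^ 11 := by decide +kernel

theorem eq_one_of_fix11 (σ : Equiv.Perm (Fin 11)) (hσ : tr σ (fam 11 L11) = fam 11 L11)
    (h : ∀ j : Fin 11, (j : ℕ) < 4 → σ j = j) : σ = 1 := by
  refine rigid_sound (by norm_num) L11_lt σ hσ 7 4 12816 rfl (by norm_num) ?_ rigid11
  intro j hj
  rw [h j hj]
  revert j
  decide

/-- The blocks of the standard `S(5, 6, 12)`. -/
def L12 : List ℕ :=
  [63, 207, 246, 249, 343, 365, 378, 411, 430, 437, 476, 483, 606, 619, 629, 669, 679, 698, 723,
  748, 783, 819, 828, 857, 870, 918, 937, 965, 970, 1008, 1117, 1134, 1139, 1175, 1195, 1212, 1242,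
  1253, 1310, 1319, 1337, 1355, 1396, 1421, 1458, 1478, 1489, 1512, 1563, 1581, 1590, 1607, 1656,
  1678, 1713, 1737, 1748, 1762, 1813, 1834, 1868, 1874, 1889, 1923, 1944, 1956, 2139, 2151, 2172,
  2206, 2221, 2227, 2261, 2282, 2333, 2347, 2358, 2382, 2417, 2439, 2488, 2505, 2514, 2532, 2583,
  2606, 2617, 2637, 2674, 2699, 2740, 2758, 2776, 2785, 2842, 2853, 2883, 2900, 2920, 2956, 2961,
  2978, 3087, 3125, 3130, 3158, 3177, 3225, 3238, 3267, 3276, 3312, 3347, 3372, 3397, 3416, 3426,
  3466, 3476, 3489, 3612, 3619, 3658, 3665, 3684, 3717, 3730, 3752, 3846, 3849, 3888, 4032]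

/-- The uniqueness certificate. -/
def C12 : Cert :=
  (.split 63 (.split 207 (.split 783 (.split 3087 (.split 343 (.split 1175 (.split 2583 (.split 2151
  (.split 1607 (.split 679 (.split 1319 (.split 2439 (.split 1737 (.split 249 (.split 2505 (.split
  723 (.split 1563 (.split 2139 (.split 411 (.split 619 (.split 2347 (.split 1195 (.split 1355
  (.split 2699 (.split 1139 (.split 2227 (.split 819 (.split 3347 (.split 483 (.split 3619 (.split
  3267 (.split 2883 (.split 1923 (.split 365 (.split 2221 (.split 669 (.split 1117 (.split 2333
  (.split 1581 (.split 2637 (.split 1421 (.split 629 (.split 437 (.split 3125 (.split 2261 (.split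
  1813 (.split 1253 (.split 2853 (.split 965 (.split 3397 (.split 3717 (.split 1337 (.split 2617
  (.split 857 (.split 3225 (.split 3177 (.split 937 (.split 3849 (.split 2417 (.split 1713 (.split
  1489 (.split 3665 (.split 2961 (.split 2785 (.split 1889 (.split 3489 (.split 606 (.split 2206
  (.split 1310 (.split 1134 (.split 430 (.split 2606 (.split 2382 (.split 1678 (.split 246 (.split
  2358 (.split 1590 (.split 3158 (.split 918 (.split 870 (.split 3238 (.split 1478 (.split 2758
  (.split 3846 (.split 378 (.split 698 (.split 3130 (.split 1242 (.split 2842 (.split 2282 (.split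
  1834 (.split 970 (.split 3658 (.split 3466 (.split 2674 (.split 1458 (.split 2514 (.split 1874
  (.split 3730 (.split 1762 (.split 3426 (.split 2978 (.split 2172 (.split 1212 (.split 828 (.split
  476 (.split 3612 (.split 748 (.split 3372 (.split 3276 (.split 1868 (.split 2956 (.split 1396
  (.split 2740 (.split 1748 (.split 2900 (.split 3476 (.split 2532 (.split 3684 (.split 1956 (.split
  1656 (.split 2488 (.split 2776 (.split 3416 (.split 1944 (.split 1512 (.split 2920 (.split 3752
  (.split 1008 (.split 3312 (.split 3888 (.split 4032 .done (.close 1984)) (.close 1840)) (.close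
  1264)) (.close 496)) (.close 1704)) (.close 872)) (.close 488)) (.close 920)) (.close 1368))
  (.close 728)) (.close 440)) (.close 632)) (.close 932)) (.close 1636)) (.close 484)) (.close
  1428)) (.close 852)) (.close 724)) (.close 692)) (.close 372)) (.close 908)) (.close 844)) (.close
  1228)) (.close 1324)) (.close 236)) (.close 1564)) (.close 220)) (.close 316)) (.close 188))
  (.close 124)) (.close 930)) (.close 1378)) (.close 738)) (.close 1682)) (.close 850)) (.close
  466)) (.close 434)) (.close 626)) (.close 1418)) (.close 1610)) (.close 458)) (.close 810))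
  (.close 234)) (.close 794)) (.close 218)) (.close 1082)) (.close 186)) (.close 122)) (.close
  1798)) (.close 710)) (.close 454)) (.close 1190)) (.close 358)) (.close 406)) (.close 1110))
  (.close 566)) (.close 310)) (.close 118)) (.close 654)) (.close 334)) (.close 558)) (.close 174))
  (.close 110)) (.close 286)) (.close 158)) (.close 94)) (.close 1441)) (.close 865)) (.close 737))
  (.close 913)) (.close 1617)) (.close 465)) (.close 689)) (.close 369)) (.close 1801)) (.close
  425)) (.close 1129)) (.close 1177)) (.close 345)) (.close 569)) (.close 313)) (.close 1669))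
  (.close 1349)) (.close 453)) (.close 805)) (.close 229)) (.close 789)) (.close 213)) (.close
  1077)) (.close 181)) (.close 117)) (.close 397)) (.close 589)) (.close 557)) (.close 285)) (.close
  93)) (.close 157)) (.close 173)) (.close 333)) (.close 899)) (.close 835)) (.close 1219)) (.close
  1571)) (.close 227)) (.close 1299)) (.close 307)) (.close 179)) (.close 115)) (.close 651))
  (.close 331)) (.close 171)) (.close 299)) (.close 587)) (.close 155)) (.close 91)) (.close 539))
  (.sym 2259 167926364910096 723 (.close 211))) (.close 457)) (.split 2265 (.split 2331 (.close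
  2077) (.close 2075)) (.split 473 (.split 2281 (.split 667 (.close 2187) (.split 2203 (.close 651)
  (.close 155))) (.close 233)) (.close 217)))) (.sym 3657 130479115481616 1737 (.sym 1865
  151078600716816 1737 (.split 1641 (.split 363 (.close 109) (.close 107)) (.split 1625 (.split 2139
  (.close 93) (.close 91)) (.close 1609)))))) (.close 391)) (.close 295)) (.close 551)) (.close
  583)) (.close 2119)) (.close 535)) (.sym 1559 205018524561936 1175 (.close 1047))) (.sym 2135
  151433942151696 343 (.sym 1111 167926616568336 343 (.sym 599 205099558515216 343 (.close 87)))))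
  (.close 1039)) (.sym 2319 171147842040336 783 (.sym 1295 204133190873616 783 (.close 271)))) (.sym
  2127 135968033354256 207 (.sym 1103 201938731020816 207 (.sym 591 205031107473936 207 (.sym 335
  205159956492816 207 (.close 79)))))) (.sym 2079 100783679091216 63 (.sym 1055 199739725591056 63
  (.sym 543 204893686346256 63 (.sym 287 205151384384016 63 (.sym 159 205163463979536 63 (.sym 95
  205163967296016 63 (.close 31))))))))

theorem check12 : check 5 12 L12 C12 [] [] = true := by decide +kernel

theorem covers12 : covers 5 12 L12 = true := by decide +kernel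

theorem rigid12 : rigid 12 L12 7 5 274960 = true := by decide +kernel

theorem L12_lt : ∀ k ∈ L12, k < 2 ^ 12 := by decide +kernel

theorem eq_one_of_fix12 (σ : Equiv.Perm (Fin 12)) (hσ : tr σ (fam 12 L12) = fam 12 L12)
    (h : ∀ j : Fin 12, (j : ℕ) < 5 → σ j = j) : σ = 1 := by
  refine rigid_sound (by norm_num) L12_lt σ hσ 7 5 274960 rfl (by norm_num) ?_ rigid12
  intro j hj
  rw [h j hj]
  revert j
  decide

end Cfsg.Agent.Spor.SC
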