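import Mathlib
import Cfsg.Prelude.Def_ClassificationK
import Cfsg.Agent.Spor.ESPair2
import Cfsg.Agent.Spor.ESFstar
import Cfsg.Agent.GT.PGroupBasic

/-!
2-groups of symplectic type and exponent 4 are "almost extraspecial".
-/

set_option autoImplicit false

namespace Cfsg.Agent.Spor

open Subgroup
open scoped commutatorElement

theorem eq_of_sq_of_isCyclic {H : Type*} [Group H] [Finite H] [IsCyclic H] {a b : H} (ha : a * a = 1)
    (hb : b * b = 1) (hb1 : b ≠ 1) : a = 1 ∨ a = b := by
  classical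
  have := Fintype.ofFinite H
  by_contra hc
  push Not at hc
  have h1 := IsCyclic.card_pow_eq_one_le (α := H) (n := 2) (by norm_num)
  have h2 : ({1, a, b} : Finset H) ⊆ Finset.univ.filter fun x : H => x ^ 2 = 1 := by
    intro x hx
    simp only [Finset.mem_insert, Finset.mem_singleton] at hx
    rcases hx with rfl | rfl | rfl <;> simp [pow_two, ha, hb]
  have h3 := Finset.card_le_card h2
  rw [Finset.card_eq_three.2 ⟨1, a, b, hc.1.symm, hb1.symm, hc.2, rfl⟩] at h3
  omega

section Sympl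

variable {T : Type*} [Group T]

theorem sympl_invol [Finite T] (h : IsOfSymplecticType T) {z : T} (hz1 : z ≠ 1) (hzz : z * z = 1)
    (hzc : z ∈ Subgroup.center T) {A : Subgroup T} [A.Characteristic] (hA : IsMulCommutative A)
    {a : T} (ha : a ∈ A) (haa : a * a = 1) : a = 1 ∨ a = z := by
  haveI := h.2 (A ⊔ Subgroup.center T) inferInstance (GT.PG.isMulCommutative_sup hA inferInstance
    fun c hc => mem_centralizer_iff.2 fun x _ => mem_center_iff.1 hc x)
  rcases eq_of_sq_of_isCyclic (H := ↥(A ⊔ Subgroup.center T)) (a := ⟨a, mem_sup_left ha⟩)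
    (b := ⟨z, mem_sup_right hzc⟩) (Subtype.ext haa) (Subtype.ext hzz)
    (fun e => hz1 (congrArg Subtype.val e)) with e | e
  · exact Or.inl (congrArg Subtype.val e)
  · exact Or.inr (congrArg Subtype.val e)

theorem characteristic_closure_sq (C : Subgroup T) [hC : C.Characteristic] :
    (Subgroup.closure ((fun x => x * x) '' (C : Set T))).Characteristic := by
  rw [characteristic_iff_le_comap]
  intro φ
  rw [closure_le]
  rintro _ ⟨x, hx, rfl⟩
  exact subset_closure ⟨φ x, characteristic_iff_le_comap.1 hC φ hx, by simp⟩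

theorem sympl_sq [Finite T] (h : IsOfSymplecticType T) (h4 : ∀ x : T, x ^ 4 = 1) {z : T} (hz1 : z ≠ 1)
    (hzz : z * z = 1) (hzc : z ∈ Subgroup.center T) (C : Subgroup T) [C.Characteristic]
    (hc : ∀ x ∈ C, ∀ y ∈ C, (x * x) * (y * y) = (y * y) * (x * x)) {x : T} (hx : x ∈ C) :
    x * x = 1 ∨ x * x = z := by
  haveI := characteristic_closure_sq C
  refine sympl_invol h hz1 hzz hzc (A := Subgroup.closure ((fun x => x * x) '' (C : Set T)))
    (Subgroup.isMulCommutative_closure ?_) (subset_closure ⟨x, hx, rfl⟩) ?_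
  · rintro _ ⟨a, ha, rfl⟩ _ ⟨b, hb, rfl⟩
    exact hc a ha b hb
  · rw [← h4 x]; simp only [pow_succ, pow_zero, one_mul, mul_assoc]

theorem sq_comm_of_class_two (h4 : ∀ x : T, x ^ 4 = 1) {C : Subgroup T}
    (hc : ⁅C, C⁆ ≤ centralizer (C : Set T)) :
    ∀ x ∈ C, ∀ y ∈ C, (x * x) * (y * y) = (y * y) * (x * x) := by
  intro x hx y hy
  have ha := mem_centralizer_iff.1 (hc (commutator_mem_commutator hx hy))
  rw [commutatorElement_def] at ha
  have e : x * y = (x * y * x⁻¹ * y⁻¹) * y * x := by group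
  have h4a := h4 (x * y * x⁻¹ * y⁻¹)
  generalize x * y * x⁻¹ * y⁻¹ = a at ha e h4a
  have hax : Commute a x := (ha x hx).symm
  have hay : Commute a y := (ha y hy).symm
  have e1 : x * (y * y) = a * a * (y * y) * x := by
    calc x * (y * y) = a * y * (x * y) := by rw [← mul_assoc, e, mul_assoc, e]
      _ = a * (y * a) * y * x := by rw [e]; group
      _ = _ := by rw [← hay.eq]; group
  calc (x * x) * (y * y) = x * (x * (y * y)) := by group
    _ = (x * (a * a)) * (y * y) * x := by rw [e1]; group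
    _ = (a * a) * (x * (y * y)) * x := by rw [← (hax.mul_left hax).eq]; group
    _ = a ^ 4 * ((y * y) * (x * x)) := by rw [e1]; simp only [pow_succ, pow_zero, one_mul, mul_assoc]
    _ = _ := by rw [h4a, one_mul]

/-- `C' ∩ Z₂(C)`. -/
def derZ2 (C : Subgroup T) : Subgroup T where
  carrier := {u | u ∈ ⁅C, C⁆ ∧ ∀ x ∈ C, u * x * u⁻¹ * x⁻¹ ∈ centralizer (C : Set T)}
  one_mem' := ⟨one_mem _, fun x _ => by simp⟩
  mul_mem' := by
    rintro a b ⟨ha, ha'⟩ ⟨hb, hb'⟩
    refine ⟨mul_mem ha hb, fun x hx => ?_⟩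
    have h1 := mem_centralizer_iff.1 (hb' x hx) a (commutator_le_self C ha)
    have : a * b * x * (a * b)⁻¹ * x⁻¹ = (b * x * b⁻¹ * x⁻¹) * (a * x * a⁻¹ * x⁻¹) := by
      calc _ = (a * (b * x * b⁻¹ * x⁻¹)) * x * a⁻¹ * x⁻¹ := by group
        _ = _ := by rw [h1]; group
    rw [this]; exact mul_mem (hb' x hx) (ha' x hx)
  inv_mem' := by
    rintro a ⟨ha, ha'⟩
    refine ⟨inv_mem ha, fun x hx => ?_⟩
    have h1 := mem_centralizer_iff.1 (inv_mem (ha' x hx)) a (commutator_le_self C ha)
    have : a⁻¹ * x * a⁻¹⁻¹ * x⁻¹ = (a * x * a⁻¹ * x⁻¹)⁻¹ := by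
      calc _ = a⁻¹ * ((a * x * a⁻¹ * x⁻¹)⁻¹ * a) := by group
        _ = _ := by rw [← h1]; group
    rw [this]; exact inv_mem (ha' x hx)

theorem derZ2_le (C : Subgroup T) : derZ2 C ≤ C := fun _ hu => commutator_le_self C hu.1

theorem derZ2_characteristic (C : Subgroup T) [hC : C.Characteristic] : (derZ2 C).Characteristic := by
  rw [characteristic_iff_le_comap]
  rintro φ u ⟨h1, h2⟩
  refine ⟨characteristic_iff_le_comap.1 (inferInstance : (⁅C, C⁆).Characteristic) φ h1, fun x hx => ?_⟩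
  have := characteristic_iff_le_comap.1 (inferInstance : (centralizer (C : Set T)).Characteristic) φ
    (h2 _ (characteristic_iff_le_comap.1 hC φ.symm hx))
  simpa using this

theorem derZ2_comm (C : Subgroup T) : IsMulCommutative (derZ2 C) := by
  refine ⟨⟨fun u v => Subtype.ext ?_⟩⟩
  have : ⁅C, C⁆ ≤ centralizer {(u : T)} := by
    rw [commutator_le]
    intro x hx y hy
    have ha := mem_centralizer_iff.1 (u.2.2 x hx)
    have hb := mem_centralizer_iff.1 (u.2.2 y hy)
    have e1 : (u : T) * x * (u : T)⁻¹ = ((u : T) * x * (u : T)⁻¹ * x⁻¹) * x := by group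
    have e2 : (u : T) * y * (u : T)⁻¹ = ((u : T) * y * (u : T)⁻¹ * y⁻¹) * y := by group
    generalize (u : T) * x * (u : T)⁻¹ * x⁻¹ = a at ha e1
    generalize (u : T) * y * (u : T)⁻¹ * y⁻¹ = b at hb e2
    rw [mem_centralizer_singleton, ← mul_inv_eq_iff_eq_mul, commutatorElement_def]
    have hab : a * b = b * a := by
      have : a = (u : T) * x * (u : T)⁻¹ * x⁻¹ := by rw [e1]; group
      refine hb a ?_
      rw [this]
      have hu := derZ2_le C u.2
      exact mul_mem (mul_mem (mul_mem hu hx) (inv_mem hu)) (inv_mem hx)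
    calc (u : T) * (x * y * x⁻¹ * y⁻¹) * (u : T)⁻¹
        = ((u : T) * x * (u : T)⁻¹) * ((u : T) * y * (u : T)⁻¹) * ((u : T) * x * (u : T)⁻¹)⁻¹ *
          ((u : T) * y * (u : T)⁻¹)⁻¹ := by group
      _ = a * (x * b) * y * x⁻¹ * (a⁻¹ * y⁻¹) * b⁻¹ := by rw [e1, e2]; group
      _ = a * (b * x) * y * x⁻¹ * (y * a)⁻¹ * b⁻¹ := by rw [hb x hx, mul_inv_rev]
      _ = (a * b) * (x * y * x⁻¹ * y⁻¹) * (b * a)⁻¹ := by rw [ha y hy]; group
      _ = _ := by
        have hw : x * y * x⁻¹ * y⁻¹ ∈ C := mul_mem (mul_mem (mul_mem hx hy) (inv_mem hx)) (inv_mem hy)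
        rw [← hab, mul_assoc a b, ← hb _ hw, ← mul_assoc, ← ha _ hw]; group
  exact mem_centralizer_singleton.1 (this v.2.1)

theorem class_two_of_derZ2 [Group.IsNilpotent T] (C : Subgroup T) [C.Normal]
    (h : derZ2 C ≤ centralizer (C : Set T)) : ⁅C, C⁆ ≤ centralizer (C : Set T) := by
  by_contra hc
  obtain ⟨x, hx, hx', H⟩ := GT.PG.exists_notMem_commutator_mem _ _ hc
  exact hx' (h ⟨hx, fun y _ => H y⟩)

theorem sympl_sq_top [Finite T] (h : IsOfSymplecticType T) (h4 : ∀ x : T, x ^ 4 = 1) {z : T}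
    (hz1 : z ≠ 1) (hzz : z * z = 1) (hzc : z ∈ Subgroup.center T) (x : T) : x * x = 1 ∨ x * x = z := by
  haveI := h.1.isNilpotent
  have hzc' := mem_center_iff.1 hzc
  have hsq : ∀ x : T, (x * x) * (x * x) = 1 := fun x => by
    rw [← h4 x]; simp only [pow_succ, pow_zero, one_mul, mul_assoc]
  refine sympl_sq h h4 hz1 hzz hzc ⊤ ?_ (mem_top x)
  by_cases hD : derZ2 (⊤ : Subgroup T) ≤ centralizer ((⊤ : Subgroup T) : Set T)
  · exact sq_comm_of_class_two h4 (class_two_of_derZ2 ⊤ hD)
  obtain ⟨d, hd, hd'⟩ := SetLike.not_le_iff_exists.1 hD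
  haveI := derZ2_characteristic (⊤ : Subgroup T)
  have hDc := derZ2_comm (⊤ : Subgroup T)
  generalize derZ2 (⊤ : Subgroup T) = D at *
  have hdd : d * d ≠ 1 := by
    intro e
    apply hd'
    rcases sympl_invol h hz1 hzz hzc hDc hd e with e | e <;> rw [e]
    · exact one_mem _
    · exact mem_centralizer_iff.2 fun y _ => hzc' y
  -- elements of a characteristic abelian subgroup containing `d`
  have key : ∀ (A : Subgroup T) [A.Characteristic], IsMulCommutative A → d ∈ A → ∀ u ∈ A,
      Eqv z u 1 ∨ Eqv z u d := by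
    intro A _ hA hdA u hu
    by_cases huu : u * u = 1
    · left
      rcases sympl_invol h hz1 hzz hzc hA hu huu with e | e
      · exact Or.inl e
      · exact Or.inr (by rw [e, mul_one])
    · right
      have e1 := (sympl_invol h hz1 hzz hzc hA (mul_mem hu hu) (hsq u)).resolve_left huu
      have e2 := (sympl_invol h hz1 hzz hzc hA (mul_mem hdA hdA) (hsq d)).resolve_left hdd
      have e3 : u * d⁻¹ = d⁻¹ * u := congrArg Subtype.val (hA.1.1 ⟨u, hu⟩ ⟨d⁻¹, inv_mem hdA⟩)
      have e4 : (u * d⁻¹) * (u * d⁻¹) = 1 := by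
        calc (u * d⁻¹) * (u * d⁻¹) = u * (d⁻¹ * u) * d⁻¹ := by group
          _ = (u * u) * (d * d)⁻¹ := by rw [← e3]; group
          _ = 1 := by rw [e1, e2, mul_inv_cancel]
      rcases sympl_invol h hz1 hzz hzc hA (mul_mem hu (inv_mem hdA)) e4 with e | e
      · exact Or.inl (mul_inv_eq_one.1 e)
      · exact Or.inr (mul_inv_eq_iff_eq_mul.1 e)
  have hcomm : ∀ {u w c : T}, Eqv z u w → w * c = c * w → u * c = c * u := by
    rintro u w c (e | e) hw <;> rw [e]
    · exact hw
    · rw [mul_assoc, hw, ← mul_assoc, ← hzc', mul_assoc]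
  have hC : ∀ c, c ∈ centralizer (D : Set T) ↔ d * c = c * d := by
    refine fun c => ⟨fun hc => mem_centralizer_iff.1 hc d hd, fun hc => mem_centralizer_iff.2 fun u hu => ?_⟩
    rcases key D hDc hd u hu with e | e
    · exact hcomm e (by simp)
    · exact hcomm e hc
  set C := centralizer (D : Set T) with hCdef
  haveI := derZ2_characteristic C
  have hC2 : ⁅C, C⁆ ≤ centralizer (C : Set T) := by
    refine class_two_of_derZ2 C fun u hu => mem_centralizer_iff.2 fun c hc => ?_
    rcases key (D ⊔ derZ2 C) (GT.PG.isMulCommutative_sup hDc (derZ2_comm C) (derZ2_le C))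
      (mem_sup_left hd) u (mem_sup_right hu) with e | e
    · exact (hcomm e (by simp)).symm
    · exact (hcomm e ((hC c).1 hc)).symm
  have hCsq : ∀ x ∈ C, x * x = 1 ∨ x * x = z := fun x hx =>
    sympl_sq h h4 hz1 hzz hzc C (sq_comm_of_class_two h4 hC2) hx
  have hCc : ∀ x ∈ C, ∀ y ∈ C, x * y = y * x ∨ x * y = z * (y * x) := by
    intro x hx y hy
    have := comm_mem_of_sq_mem (R := C) (E := zpowers z) (fun x _ e he => by
        rcases (mem_zpowers_iff_of_sq hzz).1 he with rfl | rfl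
        · simp
        · rw [hzc']; simp)
      (fun x hx => (mem_zpowers_iff_of_sq hzz).2 (hCsq x hx)) hx hy
    rcases (mem_zpowers_iff_of_sq hzz).1 this with e | e
    · left; exact mul_inv_eq_iff_eq_mul.1 (mul_inv_eq_one.1 e)
    · right; rw [← e]; group
  -- two elements outside `C` have their product in `C`
  have hout : ∀ x, x ∉ C → x * d * x⁻¹ = z * d := by
    intro x hx
    have h1 : x * d * x⁻¹ ∈ D := (inferInstance : D.Normal).conj_mem d hd x
    rcases key D hDc hd _ h1 with (e | e) | (e | e)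
    · exact absurd (by simpa using e) (fun e' : d = 1 => hdd (by simp [e']))
    · have : d = z := by
        calc d = x⁻¹ * (x * d * x⁻¹) * x := by group
          _ = z := by rw [e, mul_one, mul_assoc, ← hzc', inv_mul_cancel_left]
      exact absurd (this ▸ hzz) hdd
    · exact absurd ((hC x).2 (mul_inv_eq_iff_eq_mul.1 e).symm) hx
    · exact e
  have hmul : ∀ x y, x ∉ C → y ∉ C → x * y ∈ C := by
    intro x y hx hy
    rw [hC, eq_comm, ← mul_inv_eq_iff_eq_mul]
    calc x * y * d * (x * y)⁻¹ = x * (y * d * y⁻¹) * x⁻¹ := by group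
      _ = (x * z) * d * x⁻¹ := by rw [hout y hy]; group
      _ = z * (x * d * x⁻¹) := by rw [hzc']; group
      _ = d := by rw [hout x hx, ← mul_assoc, hzz, one_mul]
  have hcen : ∀ x ∈ C, ∀ y, (x * x) * y = y * (x * x) := by
    intro x hx y
    rcases hCsq x hx with e | e <;> rw [e]
    · simp
    · exact (hzc' y).symm
  intro x _ y _
  by_cases hx : x ∈ C
  · exact hcen x hx _
  by_cases hy : y ∈ C
  · exact (hcen y hy _).symm
  have hu := hmul x x hx hx
  have hc : x⁻¹ * y ∈ C := hmul _ _ (fun e => hx (by simpa using inv_mem e)) hy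
  have hy' : y = x * (x⁻¹ * y) := by group
  generalize x⁻¹ * y = c at hc hy'
  have e : y * y = (x * x) * ((x⁻¹ * c * x) * c) := by rw [hy']; group
  have key2 : (x * x) * ((x⁻¹ * c * x) * c) = ((x⁻¹ * c * x) * c) * (x * x) := by
    rcases hCc _ hu c hc with e1 | e1
    · calc (x * x) * ((x⁻¹ * c * x) * c) = x⁻¹ * ((x * x) * c) * x * c := by group
        _ = x⁻¹ * (c * (x * x)) * x * c := by rw [e1]
        _ = x⁻¹ * c * x * ((x * x) * c) := by group
        _ = _ := by rw [e1]; group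
    · calc (x * x) * ((x⁻¹ * c * x) * c) = x⁻¹ * ((x * x) * c) * x * c := by group
        _ = x⁻¹ * (z * (c * (x * x))) * x * c := by rw [e1]
        _ = (x⁻¹ * z) * c * x * ((x * x) * c) := by group
        _ = z * ((x⁻¹ * c * x) * z) * (c * (x * x)) := by rw [e1, hzc']; group
        _ = _ := by rw [hzc', ← mul_assoc z z, hzz]; group
  rw [e, mul_assoc (x * x) _ (x * x), ← key2]

theorem sympl_aes_top [Finite T] (h : IsOfSymplecticType T) (h4 : ∀ x : T, x ^ 4 = 1) {z : T}
    (hz1 : z ≠ 1) (hzz : z * z = 1) (hzc : z ∈ Subgroup.center T) : AES (⊤ : Subgroup T) z where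
  z_mem := mem_top z
  z_ne := hz1
  z_sq := hzz
  z_comm := fun q _ => (mem_center_iff.1 hzc q).symm
  comm := by
    intro x hx y hy
    have := comm_mem_of_sq_mem (R := ⊤) (E := zpowers z) (fun x _ e he => by
        rcases (mem_zpowers_iff_of_sq hzz).1 he with rfl | rfl
        · simp
        · rw [mem_center_iff.1 hzc]; simp)
      (fun x _ => (mem_zpowers_iff_of_sq hzz).2 (sympl_sq_top h h4 hz1 hzz hzc x)) hx hy
    rcases (mem_zpowers_iff_of_sq hzz).1 this with e | e
    · left; exact mul_inv_eq_iff_eq_mul.1 (mul_inv_eq_one.1 e)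
    · right; rw [← e]; group
  sq := fun x _ => sympl_sq_top h h4 hz1 hzz hzc x
  omega := fun x _ hxx hc => sympl_invol h hz1 hzz hzc (A := Subgroup.center T) inferInstance
    (mem_center_iff.2 fun q => (hc q (mem_top q)).symm) hxx

end Sympl

variable {G : Type*} [Group G]

theorem AES.map_injective {H : Type*} [Group H] {Q : Subgroup G} {z : G} (h : AES Q z) (f : G →* H)
    (hf : Set.InjOn f Q) : AES (Q.map f) (f z) where
  z_mem := ⟨z, h.z_mem, rfl⟩
  z_ne := fun e => h.z_ne (hf h.z_mem Q.one_mem (by simpa using e))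
  z_sq := by rw [← map_mul, h.z_sq, map_one]
  z_comm := by
    rintro _ ⟨q, hq, rfl⟩
    rw [← map_mul, h.z_comm q hq, map_mul]
  comm := by
    rintro _ ⟨x, hx, rfl⟩ _ ⟨y, hy, rfl⟩
    rcases h.comm x hx y hy with e | e
    · left; rw [← map_mul, e, map_mul]
    · right; rw [← map_mul, e, map_mul, map_mul]
  sq := by
    rintro _ ⟨x, hx, rfl⟩
    rcases h.sq x hx with e | e
    · left; rw [← map_mul, e, map_one]
    · right; rw [← map_mul, e]
  omega := by
    rintro _ ⟨x, hx, rfl⟩ hxx hc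
    have : ∀ q ∈ Q, x * q = q * x := fun q hq =>
      hf (mul_mem hx hq) (mul_mem hq hx) (by simpa using hc _ ⟨q, hq, rfl⟩)
    rcases h.omega x hx (hf (mul_mem hx hx) Q.one_mem (by simpa using hxx)) this with e | e
    · left; rw [e, map_one]
    · right; rw [e]

theorem AES.lg_of_pCore [Finite G] {Q : Subgroup G} {z : G} (h : AES Q z)
    (hC : centralizer (Q : Set G) ≤ Q) (hQ : Q = pCoreOf 2 (centralizer ({z} : Set G))) : Lg Q z := by
  have hn : ∀ c, z * c = c * z → ∀ q ∈ Q, c * q * c⁻¹ ∈ Q := fun c hc q hq =>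
    hQ ▸ (mem_normalizer_iff.1 (GT.le_normalizer_pCoreOf _ (mem_centralizer_singleton.2 hc)) q).1 (hQ ▸ hq)
  refine ⟨h, hn, fun c hc ht => ?_⟩
  let K : Subgroup G :=
    { carrier := {c | c ∈ centralizer ({z} : Set G) ∧ ∀ q ∈ Q, Eqv z (c * q * c⁻¹) q}
      one_mem' := ⟨one_mem _, fun q _ => Or.inl (by simp)⟩
      mul_mem' := by
        rintro a b ⟨ha, ha'⟩ ⟨hb, hb'⟩
        refine ⟨mul_mem ha hb, fun q hq => ?_⟩
        have := ((hb' q hq).conj (mem_centralizer_singleton.1 ha)).trans h.z_sq (ha' q hq)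
        convert this using 1; group
      inv_mem' := by
        rintro a ⟨ha, ha'⟩
        refine ⟨inv_mem ha, fun q hq => ?_⟩
        have := ((ha' q hq).conj (mem_centralizer_singleton.1 (inv_mem ha))).symm h.z_sq
        convert this using 1; group }
  have hK : K ≤ pCoreOf 2 (centralizer ({z} : Set G)) := by
    refine GT.le_pCoreOf (fun c hc => hc.1) (fun g hg => mem_normalizer_fintype ?_) ?_
    · rintro c ⟨hc, hc'⟩
      refine ⟨mul_mem (mul_mem hg hc) (inv_mem hg), fun q hq => ?_⟩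
      have := (hc' _ (hn _ (mem_centralizer_singleton.1 (inv_mem hg)) q hq)).conj
        (mem_centralizer_singleton.1 hg)
      convert this using 1 <;> group
    · rintro ⟨c, hc, hc'⟩
      refine ⟨3, Subtype.ext ?_⟩
      have h1 : c * c ∈ Q := hC (mem_centralizer_iff.2 fun q hq => by
        rw [eq_comm, ← mul_inv_eq_iff_eq_mul]
        rcases hc' q hq with e | e
        · calc c * c * q * (c * c)⁻¹ = c * (c * q * c⁻¹) * c⁻¹ := by group
            _ = q := by rw [e, e]
        · calc c * c * q * (c * c)⁻¹ = c * (c * q * c⁻¹) * c⁻¹ := by group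
            _ = (c * z) * q * c⁻¹ := by rw [e]; group
            _ = z * (c * q * c⁻¹) := by rw [← mem_centralizer_singleton.1 hc]; group
            _ = q := by rw [e, h.z_mul_z_mul])
      have := h.pow_four h1
      rw [← pow_two, ← pow_mul] at this
      simpa using this
  exact hQ ▸ hK ⟨mem_centralizer_singleton.2 hc, ht⟩

end Cfsg.Agent.Spor
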