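import Mathlib
import Cfsg.Agent.Spor.ESQuot
import Cfsg.Agent.Spor.ESFstar
import Cfsg.Agent.Loc.MssSyl
import Cfsg.Agent.GT.FStar
import Cfsg.Agent.GT.PGroupFrattini
import Cfsg.Agent.GT.TransferAbelian

/-! The structure of a finite group with a large extraspecial 2-subgroup. -/

set_option autoImplicit false
open Cfsg Subgroup

namespace Cfsg.Agent.Spor.LS
open Cfsg.Agent.GT Cfsg.Agent.Loc.Mss
open scoped commutatorElement

variable {G : Type*} [Group G] [Finite G] {Q : Subgroup G} {z : G}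

/-- A large extraspecial subgroup with centre `⟨z⟩`, elementwise. -/
structure Big (Q : Subgroup G) (z : G) : Prop where
  es : ES2 Q z
  cent : 𝐂[Q] ≤ zpowers z
  norm : ∀ c, z * c = c * z → c ∈ 𝐍[Q]
  odd : ∀ K : Subgroup G, Odd (Nat.card K) → Q ≤ 𝐍[K] → K = ⊥

omit [Finite G] in
theorem big_of_large (hQ : IsLargeExtraspecial Q) (hz : (center Q).map Q.subtype = zpowers z) :
    Big Q z := by
  refine ⟨ES2.of_center_eq hQ.1 hz, by rw [hQ.2.1, hz], fun c hc => hQ.2.2.1 ?_, hQ.2.2.2⟩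
  rw [hz]
  refine mem_cent.2 fun a ha => ?_
  obtain ⟨i, rfl⟩ := mem_zpowers_iff.1 ha
  exact (Commute.zpow_left hc i).eq

namespace Big
variable (h : Big Q z)
include h

theorem mem_of_pg {X : Subgroup G} (hX : IsPGroup 2 X) (hn : Q ≤ 𝐍[X]) (h0 : X ≠ ⊥) : z ∈ X := by
  have : Fact (Nat.Prime 2) := ⟨Nat.prime_two⟩
  obtain ⟨⟨x, hx⟩, x1⟩ := (ne_bot_iff_exists_ne_one).1
    (PG.inf_centralizer_ne_bot_of_isPGroup hX h.es.isPGroup hn h0)
  rcases (mem_zpowers_iff_of_sq h.es.z_sq).1 (h.cent hx.2) with e | e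
  · exact absurd (Subtype.ext e) x1
  · exact e ▸ hx.1

theorem mem_of_norm {X : Subgroup G} (hn : Q ≤ 𝐍[X]) (h0 : X ≠ ⊥) : z ∈ X := by
  have : Fact (Nat.Prime 2) := ⟨Nat.prime_two⟩
  obtain ⟨T, hT, hS⟩ := Syl.exists_ge h.es.isPGroup (le_sup_right : Q ≤ X ⊔ Q)
  have h1 := hS.inf le_sup_left (hS.le.trans (sup_le le_normalizer hn))
  refine (h.mem_of_pg h1.pg (norm_inf (norm_of_le hT) hn) fun e => h0 (h.odd X ?_ hn)).2
  exact Nat.coprime_two_right.1 (h1.eq_bot_iff.1 e)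

theorem solv : Group.IsSolvable Q := by
  have : Fact (Nat.Prime 2) := ⟨Nat.prime_two⟩
  have := h.es.isPGroup.isNilpotent
  infer_instance

omit [Finite G] in
theorem solv_z : Group.IsSolvable (zpowers z) := by
  have : IsMulCommutative (zpowers z) := inferInstance
  exact isSolvable_of_comm fun a b => this.is_comm.comm a b

theorem odd_core : pPrimeCore 2 G = ⊥ :=
  h.odd _ (Nat.coprime_two_right.1 (coprime_card_pPrimeCore 2)) (norm_normal _ _)

theorem comp_not_cent {L : Subgroup G} (hL : IsComponent L) : z ∉ 𝐂[L] := fun e =>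
  hL.isQuasisimple.not_le_of_isSolvable h.solv_z ((hL.le_centralizer_of_isSolvable
    (fun x hx => h.norm x (mem_cent.1 e x hx).symm) h.solv).trans h.cent)

theorem case_core (h0 : pCore 2 G ≠ ⊥) : IsMulCommutative (normalClosure ({z} : Set G)) ∧
    generalizedFittingSubgroup G = pCore 2 G := by
  have : Fact (Nat.Prime 2) := ⟨Nat.prime_two⟩
  have hp := isPGroup_pCore (G := G) 2
  have hn : ⊤ ≤ 𝐍[pCore 2 G ⊓ 𝐂[pCore 2 G]] :=
    norm_inf (norm_normal _ _) (norm_cent (norm_normal _ _))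
  have h1 : z ∈ pCore 2 G ⊓ 𝐂[pCore 2 G] := h.mem_of_pg hp.to_inf_left (le_top.trans hn)
    (PG.inf_centralizer_ne_bot_of_isPGroup hp hp le_normalizer h0)
  have := normal_of_top hn
  have h2 : normalClosure ({z} : Set G) ≤ pCore 2 G ⊓ 𝐂[pCore 2 G] :=
    normalClosure_le_normal (by simpa using h1)
  refine ⟨⟨⟨fun a b => Subtype.ext (mem_cent.1 (h2 b.2).2 _ (h2 a.2).1)⟩⟩,
    (genFitting_eq_pCore_iff' Nat.prime_two).2 ⟨layer_eq_bot_iff.2 fun K hK => ?_, h.odd_core⟩⟩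
  exact h.comp_not_cent hK (cent_comm (hK.le_layer.trans (layer_le_centralizer_pCore 2)) h1.1)

theorem exists_syl : ∃ T, Syl 2 T ⊤ ∧ Q ≤ T ∧ z ∈ 𝐂[T] := by
  have : Fact (Nat.Prime 2) := ⟨Nat.prime_two⟩
  obtain ⟨T, hT, hS⟩ := Syl.exists_ge h.es.isPGroup (le_top : Q ≤ ⊤)
  have h0 : T ≠ ⊥ := fun e => h.es.z_ne (by simpa [e] using hT h.es.z_mem)
  exact ⟨T, hS, hT, (h.mem_of_pg hS.pg.to_inf_left (norm_inf (norm_of_le hT)
    (norm_cent (norm_of_le hT)))
    (PG.inf_centralizer_ne_bot_of_isPGroup hS.pg hS.pg le_normalizer h0)).2⟩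

theorem comp_trans {K L : Subgroup G} (hK : IsComponent K) (hL : IsComponent L) :
    ∃ q ∈ Q, K = cj(q, L) := by
  by_contra hc
  push Not at hc
  have h1 : z ∈ ncl Q L := h.mem_of_norm (le_norm_ncl Q L) fun e =>
    hL.ne_bot (eq_bot_iff.2 (e ▸ le_ncl Q L))
  exact h.comp_not_cent hK (ncl_le_iff.2 (fun g hg =>
    (hL.map_conj g).le_centralizer_of_ne hK (hc g hg).symm) h1)

variable (h0 : pCore 2 G = ⊥)
include h0

theorem fit_bot : fittingSubgroup G = ⊥ := by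
  have := fitting_le_pCore_sup (G := G) 2
  rwa [h0, h.odd_core, bot_sup_eq, le_bot_iff] at this

theorem fstar_eq : generalizedFittingSubgroup G = layer G := by
  rw [genFitting_eq, h.fit_bot h0, sup_bot_eq]

theorem layer_ne : layer G ≠ ⊥ := by
  have : Nontrivial G := ⟨⟨z, 1, h.es.z_ne⟩⟩
  rw [← h.fstar_eq h0]; exact genFitting_ne_bot

theorem ncl_eq : normalClosure ({z} : Set G) = layer G := by
  refine le_antisymm (normalClosure_le_normal ?_) (layer_le fun K hK => ?_)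
  · simpa using h.mem_of_norm (norm_normal _ _) (h.layer_ne h0)
  · refine (hK.le_or_le_centralizer_of_le_normalizer (norm_normal _ _)).resolve_right fun e => ?_
    exact h.comp_not_cent hK (cent_comm e (subset_normalClosure rfl))

theorem eq_one_of {L : Subgroup G} (hL : IsComponent L) {x : G} (h1 : x ∈ L) (h2 : x ∈ 𝐂[L]) :
    x = 1 := by
  have := hL.inf_centralizer_le_fitting ⟨h1, h2⟩
  rwa [h.fit_bot h0, mem_bot] at this

theorem uniq {L : Subgroup G} (hL : IsComponent L) {x x' c c' : G} (h1 : x ∈ L) (h2 : x' ∈ L)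
    (h3 : c ∈ 𝐂[L]) (h4 : c' ∈ 𝐂[L]) (e : x * c = x' * c') : x = x' := by
  have e1 : x'⁻¹ * x = c' * c⁻¹ := by
    rw [inv_mul_eq_iff_eq_mul, ← mul_assoc, ← e, mul_inv_cancel_right]
  have := h.eq_one_of h0 hL (mul_mem (inv_mem h2) h1) (e1 ▸ mul_mem h4 (inv_mem h3))
  exact (inv_mul_eq_one.1 this).symm

theorem simple {L : Subgroup G} (hL : IsComponent L) : IsSimpleGroup L :=
  hL.isQuasisimple.isSimpleGroup (eq_bot_iff.2 fun x hx => Subtype.ext (h.eq_one_of h0 hL x.2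
    (mem_cent.2 fun a ha => congrArg Subtype.val (mem_center_iff.1 hx ⟨a, ha⟩))))

theorem case_two {L : Subgroup G} {u : G} (hL : IsComponent L) (hu : u ∈ Q) (hne : cj(u, L) ≠ L) :
    L ⊔ cj(u, L) = layer G ∧ ∃ z₁ ∈ L, z = z₁ * (u * z₁ * u⁻¹) ∧
      (∃ R : Sylow 2 L, (R : Subgroup L) = (centralizer ({z₁} : Set G)).subgroupOf L ∧
        (frattini (R : Subgroup L)).map (L.subtype.comp (R : Subgroup L).subtype) ≤ zpowers z₁) ∧
      Q ≠ pCoreOf 2 (centralizer ({z} : Set G)) := by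
  have : Fact (Nat.Prime 2) := ⟨Nat.prime_two⟩
  have hL' := hL.map_conj u
  have hcc : cj(u, L) ≤ 𝐂[L] := hL'.le_centralizer_of_ne hL hne
  have hzl : z ∈ layer G := by rw [← h.ncl_eq h0]; exact subset_normalClosure rfl
  rw [← hL.sup_layer_inf_centralizer, mem_sup_norm (inf_le_right.trans (cent_le_norm L))] at hzl
  obtain ⟨z₁, hz₁, c, hc2, ez⟩ := hzl
  obtain ⟨hcl, hc⟩ := mem_inf.1 hc2
  have cx : ∀ x ∈ L, x * c = c * x := mem_cent.1 hc
  have z1 : z₁ ≠ 1 := fun e => h.comp_not_cent hL (by rw [← ez, e, one_mul]; exact hc)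
  have z2 : z₁ * z₁ = 1 := h.uniq h0 hL (mul_mem hz₁ hz₁) (one_mem _) (mul_mem hc hc) (one_mem _) (by
    calc z₁ * z₁ * (c * c) = z₁ * (z₁ * c) * c := by group
      _ = z₁ * c * (z₁ * c) := by rw [cx _ hz₁, ← cx _ hz₁]; nth_rw 1 [cx _ hz₁]; group
      _ = 1 * 1 := by rw [ez, h.es.z_sq, one_mul])
  have hiff : ∀ x ∈ L, z * x = x * z ↔ z₁ * x = x * z₁ := fun x hx => by
    rw [← ez, mul_assoc, ← cx x hx, ← mul_assoc, ← mul_assoc, mul_left_inj]
  have hy : ∀ x ∈ L, u * x⁻¹ * u⁻¹ ∈ cj(u, L) := fun x hx => conj_mem_cj (inv_mem hx)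
  have hd : ∀ x ∈ L, z₁ * x = x * z₁ → x * (u * x⁻¹ * u⁻¹) ∈ Q := fun x hx e => by
    have := mul_mem (conj_mem_of_norm (h.norm x ((hiff x hx).2 e)) hu) (inv_mem hu)
    convert this using 1; group
  have hsq : ∀ x ∈ L, z₁ * x = x * z₁ → x * x = 1 ∨ x * x = z₁ := fun x hx e => by
    have e1 : x * (u * x⁻¹ * u⁻¹) * (x * (u * x⁻¹ * u⁻¹)) =
        x * x * (u * x⁻¹ * u⁻¹ * (u * x⁻¹ * u⁻¹)) := by
      rw [mul_assoc, ← mul_assoc (u * x⁻¹ * u⁻¹), ← mem_cent.1 (hcc (hy x hx)) x hx]; group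
    have m := mul_mem (hcc (hy x hx)) (hcc (hy x hx))
    rcases h.es.sq _ (hd x hx e) with e2 | e2
    · exact .inl (h.uniq h0 hL (mul_mem hx hx) (one_mem _) m (one_mem _) (by rw [← e1, e2, one_mul]))
    · exact .inr (h.uniq h0 hL (mul_mem hx hx) hz₁ m hc (by rw [← e1, e2, ez]))
  have hRp : IsPGroup 2 (L ⊓ centralizer ({z₁} : Set G) : Subgroup G) := pg_iff.2 fun x hx => ⟨2, by
    rw [show x ^ 2 ^ 2 = (x * x) * (x * x) by simp [pow_succ, mul_assoc]]
    rcases hsq x hx.1 (mem_centralizer_singleton.1 hx.2) with e | e <;> simp [e, z2]⟩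
  obtain ⟨T, hT, -, hzT⟩ := h.exists_syl
  have hS := hT.inf_subnormal (subnormalIn_top_iff.2 hL.isSubnormal)
  have hR : Syl 2 (L ⊓ centralizer ({z₁} : Set G)) L := by
    rw [hS.eq_of_le hRp (fun x hx => ⟨hx.2, mem_centralizer_singleton.2
      ((hiff x hx.2).1 (mem_cent.1 hzT x hx.1).symm)⟩) inf_le_left]
    exact hS
  obtain ⟨R, hR1, -⟩ := hR.exists_sylow
  rw [inf_subgroupOf_left] at hR1
  have := h.simple h0 hL
  obtain ⟨x, hx, xc, x1, x2⟩ : ∃ x ∈ L, z₁ * x = x * z₁ ∧ x ≠ 1 ∧ x ≠ z₁ := by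
    by_contra hc
    push Not at hc
    have hm : (⟨z₁, hz₁⟩ : L) ∈ (R : Subgroup L) := by
      rw [hR1]; exact mem_centralizer_singleton.2 rfl
    have hcy : IsCyclic R := ⟨⟨⟨_, hm⟩, fun y => by
      have hy' : (y : L) ∈ (centralizer ({z₁} : Set G)).subgroupOf L := hR1 ▸ y.2
      by_cases e : ((y : L) : G) = 1
      · rw [show y = 1 from Subtype.ext (Subtype.ext e)]; exact (zpowers _).one_mem
      · rw [show y = ⟨_, hm⟩ from Subtype.ext (Subtype.ext
          (hc _ (y : L).2 (mem_centralizer_singleton.1 hy') e))]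
        exact mem_zpowers _⟩⟩
    have h2 : 2 ∣ Nat.card L := by
      rw [← orderOf_eq_two_iff'.2 ⟨z1, z2⟩]; exact orderOf_dvd_natCard _ hz₁
    have h1 := (Tr.hasNormalPComplement_of_isCyclic_of_minFac R hcy
      ((Nat.minFac_eq_two_iff _).mpr h2)).card_eq_of_isSimpleGroup h2
    have := isCyclic_of_prime_card h1
    exact hL.isQuasisimple.not_isMulCommutative inferInstance
  have dne : x * (u * x⁻¹ * u⁻¹) ≠ 1 := fun e =>
    x1 (h.uniq h0 hL hx (one_mem _) (hcc (hy x hx)) (one_mem _) (by rw [e, one_mul]))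
  have dne' : x * (u * x⁻¹ * u⁻¹) ≠ z := fun e =>
    x2 (h.uniq h0 hL hx hz₁ (hcc (hy x hx)) hc (by rw [e, ez]))
  have two : ∀ K, IsComponent K → K = L ∨ K = cj(u, L) := by
    intro K hK
    by_contra hc'
    push Not at hc'
    obtain ⟨w, hw, e⟩ := h.es.exists_not_comm (hd x hx xc) dne dne'
    have e1 := h.es.aes.conj_of_ne hw (hd x hx xc) (Ne.symm e)
    have dc : ∀ K', IsComponent K' → K' ≠ L → K' ≠ cj(u, L) → x * (u * x⁻¹ * u⁻¹) ∈ 𝐂[K'] :=
      fun K' h1 h2 h3 => mul_mem (hL.le_centralizer_of_ne h1 h2.symm hx)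
        (hL'.le_centralizer_of_ne h1 h3.symm (hy x hx))
    have key : ∀ K', IsComponent K' → z * (x * (u * x⁻¹ * u⁻¹)) ∉ 𝐂[K'] →
        cj(w⁻¹, K') = L ∨ cj(w⁻¹, K') = cj(u, L) := fun K' h1 h2 => by
      by_contra h3
      push Not at h3
      have := dc _ (h1.map_conj w⁻¹) h3.1 h3.2
      rw [← cj_cent, mem_cj, inv_inv, e1] at this
      exact h2 this
    have k0 : ∀ v ∈ L, v ≠ z₁ → z * v ∉ 𝐂[L] := fun v hv v1 e2 => by
      have e3 : z * v = z₁ * v * c := by rw [← ez, mul_assoc, mul_assoc, cx v hv]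
      rw [e3, mul_mem_cancel_right hc] at e2
      have := h.eq_one_of h0 hL (mul_mem hz₁ hv) e2
      exact v1 (mul_left_cancel (this.trans z2.symm))
    have k1 := key L hL fun e2 => k0 x hx x2 (by
      rwa [← mul_assoc, mul_mem_cancel_right (hcc (hy x hx))] at e2)
    have k2 := key _ hL' fun e2 => k0 x⁻¹ (inv_mem hx)
      (fun e3 => x2 (by rw [← inv_inv x, e3, inv_eq_self_of_sq z2])) (by
      have e3 : u⁻¹ * x * u ∈ 𝐂[L] := by
        rw [← mem_cj, cj_cent]; exact cent_comm hcc hx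
      have e4 := mem_cent.1 e3 _ (inv_mem hx)
      rw [← cj_cent, mem_cj, show u⁻¹ * (z * (x * (u * x⁻¹ * u⁻¹))) * u =
        u⁻¹ * (z * u) * (u⁻¹ * x * u * x⁻¹) by group, h.es.z_comm u hu, ← e4, inv_mul_cancel_left,
        ← mul_assoc, mul_mem_cancel_right e3] at e2
      exact e2)
    have k3 := key K hK fun e2 => h.comp_not_cent hK (by
      rwa [mul_mem_cancel_right (dc K hK hc'.1 hc'.2)] at e2)
    rcases k1 with k1 | k1 <;> rcases k2 with k2 | k2 <;> rcases k3 with k3 | k3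
    all_goals first
      | exact hne (cj_eq_cj.1 (k2.trans k1.symm))
      | exact hc'.1 (cj_eq_cj.1 (k3.trans k1.symm))
      | exact hc'.2 (cj_eq_cj.1 (k3.trans k2.symm))
  have hE : L ⊔ cj(u, L) = layer G := le_antisymm (sup_le hL.le_layer hL'.le_layer)
    (layer_le fun K hK => by
      rcases two K hK with rfl | rfl
      exacts [le_sup_left, le_sup_right])
  refine ⟨hE, z₁, hz₁, ?_, ⟨R, hR1, ?_⟩, fun e => ?_⟩
  · rw [← hE, mem_sup_norm (hcc.trans (cent_le_norm L))] at hcl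
    obtain ⟨l, hl, l', hl', rfl⟩ := hcl
    rw [mul_mem_cancel_right (hcc hl')] at hc
    obtain rfl := h.eq_one_of h0 hL hl hc
    rw [one_mul] at ez
    have e1 : cj(u, cj(u, L)) = L :=
      (two _ (hL'.map_conj u)).resolve_right fun e => hne (cj_eq_cj.1 e)
    have m1 : u * l' * u⁻¹ ∈ L := e1 ▸ conj_mem_cj hl'
    have m2 : u * z₁ * u⁻¹ ∈ 𝐂[L] := hcc (conj_mem_cj hz₁)
    have e2 : z₁ * l' = u * l' * u⁻¹ * (u * z₁ * u⁻¹) := by
      rw [mem_cent.1 m2 _ m1, show u * z₁ * u⁻¹ * (u * l' * u⁻¹) = u * (z₁ * l') * u⁻¹ by group, ez,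
        ← h.es.z_comm u hu, mul_inv_cancel_right]
    have e3 := h.uniq h0 hL hz₁ m1 (hcc hl') m2 e2
    rw [← ez, e2, ← e3]
  · rw [map_le_iff_le_comap]
    have hs : ∀ y : (R : Subgroup L), (L.subtype.comp (R : Subgroup L).subtype) (y * y) ∈
        zpowers z₁ := fun y => by
      have hy' : (y : L) ∈ (centralizer ({z₁} : Set G)).subgroupOf L := hR1 ▸ y.2
      exact (mem_zpowers_iff_of_sq z2).2 (hsq _ (y : L).2 (mem_centralizer_singleton.1 hy'))
    refine PG.frattini_le Nat.prime_two ?_ fun y => by rw [pow_two]; exact hs y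
    rw [_root_.commutator_def, commutator_le]
    intro a _ b _
    have e : ⁅a, b⁆ = (a * b * (a * b)) * ((b⁻¹ * a⁻¹ * b) * (b⁻¹ * a⁻¹ * b)) * (b⁻¹ * b⁻¹) := by
      rw [commutatorElement_def]; group
    rw [e]
    exact mul_mem (mul_mem (hs _) (hs _)) (hs _)
  · have h1 : L ⊓ centralizer ({z} : Set G) ≤ Q := by
      rw [e]
      refine (subnormalIn_inf_right_of_isSubnormal hL.isSubnormal _).le_pCoreOf (hRp.to_le ?_)
      exact fun v hv => ⟨hv.1, mem_centralizer_singleton.2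
        ((hiff v hv.1).1 (mem_centralizer_singleton.1 hv.2))⟩
    have hxQ : x ∈ Q := h1 ⟨hx, mem_centralizer_singleton.2 ((hiff x hx).2 xc)⟩
    rcases h.es.comm x hxQ u hu with e1 | e1
    · exact dne (by rw [← mul_assoc, ← mul_assoc, e1]; group)
    · exact dne' (by rw [← mul_assoc, ← mul_assoc, e1]; group)

/-- With `O₂(G) = 1` and `Q = O₂(C(z))` the normal closure of `z` is simple. -/
theorem simple_ncl (hQ : Q = pCoreOf 2 (centralizer ({z} : Set G))) :
    IsSimpleGroup (normalClosure ({z} : Set G)) := by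
  obtain ⟨L, hL⟩ := layer_ne_bot_iff.1 (h.layer_ne h0)
  have : layer G = L := le_antisymm (layer_le fun K hK => by
    obtain ⟨u, hu, rfl⟩ := h.comp_trans hK hL
    by_contra hc
    obtain ⟨-, _, -, -, -, e⟩ := h.case_two h0 hL hu fun e => hc e.le
    exact e hQ) hL.le_layer
  rw [h.ncl_eq h0, this]
  exact h.simple h0 hL

end Big

/-- If the centraliser of `z` lies in the normal closure of `z`, the group is simple. -/
theorem Big.isSimpleGroup (h : Big Q z) (hQ : Q = pCoreOf 2 (centralizer ({z} : Set G)))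
    (hC : centralizer ({z} : Set G) ≤ normalClosure ({z} : Set G)) : IsSimpleGroup G := by
  have : Fact (Nat.Prime 2) := ⟨Nat.prime_two⟩
  have hQC : Q ≤ centralizer ({z} : Set G) := fun q hq =>
    mem_centralizer_singleton.2 (h.es.z_comm q hq)
  have h0 : pCore 2 G = ⊥ := by
    by_contra h0
    obtain ⟨x, hx, y, hy, e⟩ := h.es.nonab
    exact e (congrArg Subtype.val ((h.case_core h0).1.is_comm.comm
      (⟨x, hC (hQC hx)⟩ : normalClosure ({z} : Set G)) ⟨y, hC (hQC hy)⟩))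
  obtain ⟨T, hT, hQT, hzT⟩ := h.exists_syl
  have hTM : T ≤ normalClosure ({z} : Set G) := fun t ht =>
    hC (mem_centralizer_singleton.2 (mem_cent.1 hzT t ht).symm)
  have htop : normalClosure ({z} : Set G) = ⊤ := by
    refine eq_top_iff.2 fun g _ => ?_
    obtain ⟨m, hm, k, hk, rfl⟩ := (hT.mono hTM le_top).frattini (norm_normal ⊤ _ (mem_top g))
    refine mul_mem hm (hC (mem_centralizer_singleton.2 ?_))
    have h1 : k * z * k⁻¹ ∈ 𝐂[T] := conj_mem_of_norm (norm_cent le_rfl hk) hzT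
    rcases (mem_zpowers_iff_of_sq h.es.z_sq).1 (h.cent (cent_anti hQT h1)) with e | e
    · exact absurd (by simpa using e) h.es.z_ne
    · exact (mul_inv_eq_iff_eq_mul.1 e).symm
  have := h.simple_ncl h0 hQ
  rw [htop] at this
  exact topEquiv.symm.isSimpleGroup

end Cfsg.Agent.Spor.LS
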