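import Mathlib
import Cfsg.Agent.Spor.FDefs2
import Cfsg.Agent.Spor.TTUnitC

/-!
Orthogonal coordinatisations over `𝔽₃` read off from a multiplication table.
-/

set_option autoImplicit false

namespace Cfsg.Agent.Spor.TT

open Cfsg.Agent.Cl

variable {G : Type*} [Group G] {E : Set G}

theorem oRep_of_table {F V ι : Type} [Field F] [AddCommGroup V] [Module F V] {Q : QuadraticForm F V}
    (nd : ∀ v, (∀ w, QuadraticMap.polar Q v w = 0) → v = 0) (ov : ι → V) (T : ι → ι → ι)
    (h1 : ∀ i, Q (ov i) = 1) (h2 : ∀ v, Q v = 1 → ∃ i, v = ov i ∨ v = -ov i)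
    (h3 : ∀ i j, ov j = ov i ∨ ov j = -ov i → i = j)
    (h4 : ∀ i j, ov j - QuadraticMap.polar Q (ov j) (ov i) • ov i = ov (T i j) ∨
      ov j - QuadraticMap.polar Q (ov j) (ov i) • ov i = -ov (T i j))
    (r : ι → G) (r1 : ∀ i, r i ∈ E) (r2 : ∀ d ∈ E, ∃ i, r i = d) (r3 : Function.Injective r)
    (r4 : ∀ i j, cj (r i) (r j) = r (T i j)) : ∃ ρ, ORep E Q ρ := by
  classical
  let ρ : V → G := fun v => if h : ∃ i, v = ov i ∨ v = -ov i then r h.choose else 1
  have key : ∀ v i, v = ov i ∨ v = -ov i → ρ v = r i := fun v i hv => by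
    have h : ∃ i, v = ov i ∨ v = -ov i := ⟨i, hv⟩
    rw [show ρ v = r h.choose from dif_pos h, h3 h.choose i]
    rcases hv with e | e <;> rcases h.choose_spec with e' | e'
    · exact .inl (e.symm.trans e')
    · exact .inr (e.symm.trans e')
    · exact .inr (by rw [← e', e, neg_neg])
    · exact .inl (neg_injective (e.symm.trans e'))
  refine ⟨ρ, nd, fun v hv => ?_, fun d hd => ?_, fun v w hv hw => ?_, fun v w hv hw => ?_⟩
  · obtain ⟨i, hi⟩ := h2 v hv
    rw [key v i hi]; exact r1 i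
  · obtain ⟨i, rfl⟩ := r2 d hd
    exact ⟨ov i, h1 i, key _ i (.inl rfl)⟩
  · obtain ⟨i, hi⟩ := h2 v hv
    obtain ⟨j, hj⟩ := h2 w hw
    rw [key v i hi, key w j hj, r3.eq_iff]
    refine ⟨?_, fun k => h3 i j ?_⟩
    · rintro rfl
      rcases hi with rfl | rfl <;> rcases hj with rfl | rfl <;> simp
    · rcases hi with rfl | rfl <;> rcases hj with rfl | rfl <;>
        simpa only [neg_neg, neg_inj, neg_eq_iff_eq_neg, or_comm] using k
  · obtain ⟨i, hi⟩ := h2 v hv
    obtain ⟨j, hj⟩ := h2 w hw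
    rw [key v i hi, key w j hj, r4, key _ (T i j)]
    have h5 : -ov j + QuadraticMap.polar Q (ov j) (ov i) • ov i = ov (T i j) ∨
        -ov j + QuadraticMap.polar Q (ov j) (ov i) • ov i = -ov (T i j) := by
      rw [show -ov j + QuadraticMap.polar Q (ov j) (ov i) • ov i =
        -(ov j - QuadraticMap.polar Q (ov j) (ov i) • ov i) by abel, neg_eq_iff_eq_neg, neg_inj]
      exact (h4 i j).symm
    rcases hi with rfl | rfl <;> rcases hj with rfl | rfl <;>
      try simp only [QuadraticMap.polar_neg_left, QuadraticMap.polar_neg_right, neg_smul, smul_neg,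
        neg_neg, sub_neg_eq_add]
    exacts [h4 i j, h5, h4 i j, h5]

/-- Diagonal forms over `𝔽₃`. -/
def dg3 {n : ℕ} (c : Fin n → ZMod 3) : QuadraticForm (ZMod 3) (Fin n → ZMod 3) :=
  QuadraticMap.weightedSumSquares (ZMod 3) c

theorem dg3_apply {n : ℕ} (c v : Fin n → ZMod 3) : dg3 c v = ∑ i, c i * (v i * v i) :=
  QuadraticMap.weightedSumSquares_apply c v

theorem dg3_polar {n : ℕ} (c v w : Fin n → ZMod 3) :
    QuadraticMap.polar (dg3 c) v w = 2 * ∑ i, c i * (v i * w i) := by
  simp only [QuadraticMap.polar, dg3_apply, Pi.add_apply, ← Finset.sum_sub_distrib, Finset.mul_sum]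
  exact Finset.sum_congr rfl fun _ _ => by ring

theorem dg3_nd {n : ℕ} {c : Fin n → ZMod 3} (hc : ∀ i, c i ≠ 0) (v : Fin n → ZMod 3)
    (h : ∀ w, QuadraticMap.polar (dg3 c) v w = 0) : v = 0 := funext fun i => by
  have := h (Pi.single i 1)
  rw [dg3_polar, Finset.sum_eq_single i (fun j _ hj => by simp [hj]) (by simp)] at this
  simpa [hc i, show (2 : ZMod 3) ≠ 0 by decide] using this

/-- The checks on a table for a diagonal form in five variables. -/
structure Tab5 (c : Fin 5 → ZMod 3) {N : ℕ} (ov : Fin N → Fin 5 → ZMod 3) (T : Fin N → Fin N → Fin N) :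
    Prop where
  h0 : ∀ i, c i ≠ 0
  h1 : ∀ i, ∑ k, c k * (ov i k * ov i k) = 1
  h2 : ∀ x y z t u : ZMod 3, c 0 * (x * x) + c 1 * (y * y) + c 2 * (z * z) + c 3 * (t * t) +
    c 4 * (u * u) = 1 → ∃ i, (∀ k, ![x, y, z, t, u] k = ov i k) ∨ ∀ k, ![x, y, z, t, u] k = -ov i k
  h3 : ∀ i j, (∀ k, ov j k = ov i k) ∨ (∀ k, ov j k = -ov i k) → i = j
  h4 : ∀ i j, ∃ p, p = 2 * ∑ k, c k * (ov j k * ov i k) ∧
    ((∀ k, ov j k - p * ov i k = ov (T i j) k) ∨ ∀ k, ov j k - p * ov i k = -ov (T i j) k)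

theorem Tab5.oRep {c : Fin 5 → ZMod 3} {N : ℕ} {ov : Fin N → Fin 5 → ZMod 3}
    {T : Fin N → Fin N → Fin N} (h : Tab5 c ov T) (r : Fin N → G) (r1 : ∀ i, r i ∈ E)
    (r2 : ∀ d ∈ E, ∃ i, r i = d) (r3 : Function.Injective r)
    (r4 : ∀ i j, cj (r i) (r j) = r (T i j)) : ∃ ρ, ORep E (dg3 c) ρ := by
  refine oRep_of_table (dg3_nd h.h0) ov T (fun i => (dg3_apply _ _).trans (h.h1 i)) (fun v hv => ?_)
    (fun i j k => h.h3 i j (k.imp congrFun congrFun)) (fun i j => ?_) r r1 r2 r3 r4
  · rw [dg3_apply, Fin.sum_univ_five] at hv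
    have e : v = ![v 0, v 1, v 2, v 3, v 4] := funext fun k => by fin_cases k <;> rfl
    exact (h.h2 _ _ _ _ _ hv).imp fun i k => k.imp (fun k => e.trans (funext k))
      fun k => e.trans (funext k)
  · obtain ⟨p, hp, k⟩ := h.h4 i j
    rw [dg3_polar, ← hp]
    exact k.imp funext funext

/-- The points of norm one of the sum of five squares. -/
def ov45 (i : Fin 45) (k : Fin 5) : ZMod 3 :=
  ((0xa91a6294a499166194668962649524a51962549495156154568561645516a168661586916465154401a91a499164a5194951540101010100 >>> (2 * (5 * i.1 + k.1))) % 4 : ℕ)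

/-- The isotropic points of the unitary space of dimension four. -/
def uv45 (i : Fin 45) (k : Fin 4) : GF4 :=
  TF.ofCode gf4 ((0x59fdd5755da99565114114440d0990d0f9adb5e57ddd99699d6de9b984248121f5edbd79d931c134c4a5550550 >>> (2 * (4 * i.1 + k.1))) % 4)

/-- The common multiplication table. -/
def tb45 (i j : Fin 45) : Fin 45 :=
  Fin.ofNat 45 ((0x2c06aa429e18a48e59837d149c3061cf4082544dd79760b29b38d55665a144828ac006baa9a028e49668a18034d431b10528b34e75e4912485567176103c719969f9ec02caea0218c29649e2a114c37451da30e2102947d28162d82593d53576c67047a6069b2b0298a49829e3a2149478310631924d2cf7d38112952176964183876c571d941a82ae18a80669648e9aa030a2c36cd3935041576071903d969f75e24849155672c9c0b028e40679a5a6a8a131f2097033d018745214455665a38d80b29d7976144dbae80218c2a689e6024ae2b092de30d3c36521141961d81506ce71d7ca8084d54576aa0658a4a82a27025ae3b2120a31d3906831511d31951176cf70d78b7c9816518499a419ac96a9e8a66ae400184f14e1932522835d631471a2d081e1d54596c835d7c46028a3b269e9a2aae50238814041c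d5082d160331571329980f19d59a4896de3857d70a1925aeaa299e6b018e200735010b45421830355a2526de14e7d770a4d98063dd5829219aba29aa7b2590102118e14f2922533175832196d111d7cd60b71a50781e4150a3883ad14a830920f4071a005e7426d55985d96944e9aa39041672ca9a58a134eb1c7c0b034d43272ca14434e05f79d7025d865a595a6a491187862a2694920f4248eb6e00114c3a4a22630e1d01607de0155c26586d6714ad2b221241a52e82678cd84fa9a05d494a832c932518d10f81f01d5986826d7715ad3b111611e39a82a720e9108a96417ac3051039cd39350b2827d559c05a6585dd7a39082503e59ab8a14521c6aa9a206c032b1c6a033d02484528025d805b69975e59528b86296638db135248eaa451277dc00612a30d3c39522d42555c275c6da0187d68222242909cea298d18531ec16b99e0591c532939098329121359878271b0197d78152612e39cfa0da929148ac1ab12574168f28e2531921438e232065e6dc75a7d8001554a26110b2a2212eba4d1e795190259740b20d50711190332181a6dd71e7d9017581a13165b0f2698ab28eaa71929a30956083502c44541e43038597de71d6da8015d60261929ea28eae3a4f26c95316888261524e28f15219332388369f71d79b8196010151e59d12e9acd910aac2149a81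210975ac76a7d71561a471a220a5eae32a2258a261d40014423ce30d2db6615659c40d0493b1e7e96041d572325982aadd90b221a171a501348140230d39b2a26a65859c33d151daea80755811a2a26e97deb088642e61569c14d201030234f66325ca065e50ce5117ab8291961572d96e1a9fb1d2622a31259d550101130f38242469c207a266033534972562a86666e481e1231a215c95a9d8b2a2c24d2310001351569ac81df7610d438f6082d5a1a6e582315d9071217269d9b172a950231100f3814aa589adf1a27834cd40b5582199e671e1a27c48641e56daa2a256ad43024413ce013b0a5e97631600d240d2962576a77251dd7e11621a399ba19229ad531348240100d50bb2a6247a010344f39b71969f81d795597627a259abb29aa18a390d38f41149350c2ca2481c61440c20403973d67677e545a7218267a88938d262ba5051b66456ab0d30b0012021850c41c928d61541e9e67d94a272096876151192b5cfa9b4e36a958eb0c00a2411c20c414620b550358a1d8256e34da99f7a7464854a4e5ac66249cacf5ea3012890070c210614b2163d73a87a68246d95257e77528d388daac56169c450ae960c2c10080c61421c428966b6e94974d635e82188f8ce72a6ac627954566a1141f7643022890c70011082c519aaea6d161551d3a282140d91ca6c6675d39a5592a1f3e378c2c20c800614124a107b197295544587e33de364850a9b6ab9525a89d35e67623a030b0c220118500a24712c6aa7164d74a47dd40e8cf8a96eb6519a85549e56217a034c0ca2421c10042c818581f79d71b699617595b2baa9a279a59238a151349140f38d3041461c824a2c30810289e696caeaa648e285c6da6607de7585d65503ce3544d244c1c61442ca2480c2040aecaa99e89a58a19237e079d6dc69959561749151338d40f30920b28510718308102cae9aa89e59a39218a07dd79c6d969761559351148f40d38c28b2091871050c2040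 >>> (6 * (45 * i.1 + j.1))) % 64)

theorem tab45 : Tab5 (fun _ => 1) ov45 tb45 :=
  ⟨by decide, by decide +kernel, by decide +kernel, by decide +kernel, by decide +kernel⟩

theorem uv45_iso : ∀ i, (∃ k, uv45 i k ≠ 0) ∧ ∑ k, uv45 i k * sg4 (uv45 i k) = 0 := by
  decide +kernel

theorem uv45_surj : ∀ x y z t : GF4, x * sg4 x + y * sg4 y + z * sg4 z + t * sg4 t = 0 →
    (x = 0 ∧ y = 0 ∧ z = 0 ∧ t = 0) ∨ ∃ i c, ∀ k, ![x, y, z, t] k = c * uv45 i k := by
  decide +kernel

theorem uv45_inj : ∀ i j c, (∀ k, uv45 j k = c * uv45 i k) → i = j := by decide +kernel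

theorem uv45_cj : ∀ i j, ∃ p, p = ∑ k, uv45 j k * sg4 (uv45 i k) ∧
    ∃ c, ∀ k, uv45 j k + p * uv45 i k = c * uv45 (tb45 i j) k := by decide +kernel

/-- The points of norm one of minus the sum of five squares. -/
def ov36 (i : Fin 36) (k : Fin 5) : ZMod 3 :=
  ((0xaa5a99a569a659996559026a569665596956565555405084112044180501090142104481104240508411090140 >>> (2 * (5 * i.1 + k.1))) % 4 : ℕ)

/-- The non-singular points of the elliptic space of dimension six over `𝔽₂`. -/
def mv36 (i : Fin 36) (k : Fin 6) : ZMod 2 :=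
  ((0x9ff1d7545f650961be9acd0c70a0494dbae30cb459a6149aaa2e30 >>> (6 * i.1 + k.1)) % 2 : ℕ)

/-- The common multiplication table. -/
def tb36 (i j : Fin 36) : Fin 36 :=
  Fin.ofNat 36 ((0x8e28407c211b71a18844a3cd4d25d054e50c2d62581d915d0de0608e20600de6c474765120f29431261058e3532d525768615c7c28408c186015b74278945818d54a3926503d358c2d46881d77c40dc8800228606c50dc7d12475d630e2926903d43552d36486067847420638c315b7de74080b3cd5d618841245364e60c68a2541d584488205c0a26c57de05c84f2d830755021245468e35764a2535868040e374011b8437c175c88d64b3894141924553d768c60a5881d31638027806c40a001e75c8da30e2d02474d24563d83595ca5485061620e105f71d79f8218a36da6585d65544d22ca2481c64503ce34c1440c20408c72512cf35c6da65801608449381078e74c7ca8488861540d50571a24493cb74c6da6415c35521148507ce35c78a8081e315358260021184735e2ce6da0585c54940958903dc7cc74a2638065840d36404481a07cc38b6c06585d21434d68d03dd35e70a2621e154450205a28f3607c72506da0c549655401745c88e84c2e37487866046420533ca84c19e4096c26521565414d845d8ce3602e2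7081df5c40da50036228e2107476c44980d60544d945e3e08cc2e125f70615a5c25408cc38a40819c6d21025c05544da45f3e13622e025e1dd1590d80568e28607de75c6d351559761969228b20918741138f30d1440c20405d865a7de75c2e08628d65544ca4501440c26d22481c63ce34c0408e28604d455629a6585dc75e7cb45010508349b2481c638f30d04055686065a75c25e7d85e28d44c81443ce0402ca6d21c64500c234c8e24d47de5d821a65c7565608491053ce0012ca49b1c64110c230d5225a061e69c1dd65f5e15634c60c204034c2ca2486d21444503ce8d38557d775919a71879681488708300134c2ca24849b14441138f8e286069961745f79d7165544d06d23ce34c2ca1440c22481c60405955137de75c41a6585e38a181149b3ce34c2ca1050832091870408e26997de5953e18185dd7144ce4506d234c1442480402ca0c21c661786051375c39a66389655f78f45049b34c10524800128b0c21878da8587d67543626605de55c4cc4503ce6d20c20401c61442ca2486625e055e4dc31a8d88567d474d4503ce49b0830011c614428b2098e27de86075c6da6565585d44d23ce45034c2482ca1c61440400c275c8607de8e26d44d85d655a65238f41134c20928b1c61440010838df85d89e81c6da5985195574d234c3ce4501c62482ca0400c21447a27207e37616d56535d669461230d3ce41118724828b0010c21058e18a07dd79c6da6195d65154d245034c3ce2ca1c62480c214404082286371e75f6d765869355459245030d38f2ca187209083105040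 >>> (6 * (36 * i.1 + j.1))) % 64)

theorem tab36 : Tab5 (fun _ => 2) ov36 tb36 :=
  ⟨by decide, by decide +kernel, by decide +kernel, by decide +kernel, by decide +kernel⟩

/-- The elliptic form in six variables. -/
def q6 (x : Fin 6 → ZMod 2) : ZMod 2 := x 0 * x 0 + x 0 * x 1 + x 1 * x 1 + x 2 * x 3 + x 4 * x 5

/-- Its polar form. -/
def b6 (x y : Fin 6 → ZMod 2) : ZMod 2 :=
  x 0 * y 1 + x 1 * y 0 + x 2 * y 3 + x 3 * y 2 + x 4 * y 5 + x 5 * y 4

theorem mv36_q : ∀ i, q6 (mv36 i) = 1 := by decide +kernel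

theorem mv36_surj : ∀ a b c d e f : ZMod 2, q6 ![a, b, c, d, e, f] = 1 →
    ∃ i, ∀ k, ![a, b, c, d, e, f] k = mv36 i k := by decide +kernel

theorem mv36_inj : ∀ i j, (∀ k, b6 (mv36 i) (mv36 k) = b6 (mv36 j) (mv36 k)) → i = j := by
  decide +kernel

theorem mv36_cj : ∀ i j, ∃ p, p = b6 (mv36 j) (mv36 i) ∧
    ∀ k, mv36 j k - p * mv36 i k = mv36 (tb36 i j) k := by decide +kernel

/-- `O₆⁻(2) = O₅(3)`. -/
theorem ORep.isO_five {V : Type} [AddCommGroup V] [Module (ZMod 2) V]
    {Q : QuadraticForm (ZMod 2) V} {ρ : V → G} (h : ORep E Q ρ)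
    (L : (Fin 6 → ZMod 2) →ₗ[ZMod 2] V) (hs : Function.Surjective L) (hq : ∀ x, Q (L x) = q6 x)
    (hb : ∀ x y, QuadraticMap.polar Q (L x) (L y) = b6 x y) : IsO (ZMod 3) E 5 := by
  have h1 : ∀ i, Q (L (mv36 i)) = 1 := fun i => (hq _).trans (mv36_q i)
  refine ⟨_, tab36.oRep (fun i => ρ (L (mv36 i))) (fun i => h.mem _ (h1 i)) (fun d hd => ?_)
    (fun i j e => mv36_inj i j fun k => ?_) fun i j => ?_⟩
  · obtain ⟨v, hv, rfl⟩ := h.surj d hd
    obtain ⟨x, rfl⟩ := hs v
    have e : x = ![x 0, x 1, x 2, x 3, x 4, x 5] := funext fun k => by fin_cases k <;> rfl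
    obtain ⟨i, hi⟩ := mv36_surj _ _ _ _ _ _ (e ▸ (hq x).symm.trans hv)
    exact ⟨i, by rw [e, funext hi]⟩
  · rw [← hb, ← hb]
    rcases (h.eq_iff _ _ (h1 i) (h1 j)).mp e with e | e <;> rw [e]
    rw [QuadraticMap.polar_neg_left, ZMod.neg_eq_self_mod_two]
  · obtain ⟨p, hp, k⟩ := mv36_cj i j
    rw [h.cj_eq _ _ (h1 i) (h1 j), hb, ← hp, ← map_smul, ← map_sub]
    exact congrArg (fun x => ρ (L x)) (funext k)

end Cfsg.Agent.Spor.TT
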