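import Mathlib
import Cfsg.Agent.Spor.FiU6
import Cfsg.Agent.Spor.Comp.Act

/-!
Vectors of `𝔽₄⁶` coded by the numbers below 4096, and a checker for case distinctions about the
members of a set of 3-transpositions that commute with a given one.
-/

set_option autoImplicit false
set_option exponentiation.threshold 100000

namespace Cfsg.Agent.Spor.TT

open Cfsg.Agent.Cl Cfsg.Agent.Spor

/-- The vector with code `u`. -/
def dec (u : ℕ) : V6 := fun i => TF.ofCode gf4 (Nat.shiftRight u (Nat.mul 2 i))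

/-- The form on three coordinates. -/
def fm3 (x y : ℕ) : ℕ := getP 2 3 (nat_lit 0x6c93c639936c39c6c6396c9339c6936cd827728d27d88d72728dd8278d7227d8b44b1ee14bb4e11e1ee1b44be11e4bb400ffaa55ff0055aaaa5500ff55aaff00c66c933939936cc66cc639939339c66c72d8278d8d27d872d8728d27278d72d81eb44be1e14bb41eb41ee14b4be11eb4aa00ff5555ff00aa00aa55ffff55aa0093c66c396c3993c6396cc693c693396c2772d88dd88d27728dd8722772278dd84b1eb4e1b4e14b1ee1b41e4b1e4be1b4ffaa00550055ffaa5500aaffaaff550039393939c6c6c6c6939393936c6c6c6c8d8d8d8d7272727227272727d8d8d8d8e1e1e1e11e1e1e1e4b4b4b4bb4b4b4b455555555aaaaaaaaffffffff00000000c6396c936c93c639936c39c639c6936c728dd827d827728d27d88d728d7227d81ee1b44bb44b1ee14bb4e11ee11e4bb4aa5500ff00ffaa55ff0055aa55aaff006cc63993c66c933939936cc69339c66cd8728d2772d8278d8d27d872278d72d8b41ee14b1eb44be1e14bb41e4be11eb400aa55ffaa00ff5555ff00aaff55aa00396cc69393c66c396c3993c6c693396c8dd872272772d88dd88d277272278dd8e1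b41e4b4b1eb4e1b4e14b1e1e4be1b45500aaffffaa00550055ffaaaaff55009393939339393939c6c6c6c66c6c6c6c272727278d8d8d8d72727272d8d8d8d84b4b4b4be1e1e1e11e1e1e1eb4b4b4b4ffffffff55555555aaaaaaaa00000000936c39c6c6396c936c93c63939c6936c27d88d72728dd827d827728d8d7227d84bb4e11e1ee1b44bb44b1ee1e11e4bb4ff0055aaaa5500ff00ffaa5555aaff0039936cc66cc63993c66c93399339c66c8d27d872d8728d2772d8278d278d72d8e14bb41eb41ee14b1eb44be14be11eb455ff00aa00aa55ffaa00ff55ff55aa006c3993c6396cc69393c66c39c693396cd88d27728dd872272772d88d72278dd8b4e14b1ee1b41e4b4b1eb4e11e4be1b40055ffaa5500aaffffaa0055aaff5500c6c6c6c693939393393939396c6c6c6c72727272272727278d8d8d8dd8d8d8d81e1e1e1e4b4b4b4be1e1e1e1b4b4b4b4aaaaaaaaffffffff555555550000000039c6936c39c6936c39c6936c39c6936c8d7227d88d7227d88d7227d88d7227d8e11e4bb4e11e4bb4e11e4bb4e11e4bb455aaff0055aaff0055aaff0055aaff009339c66c9339c66c9339c66c9339c66c278d72d8278d72d8278d72d8278d72d84be11eb44be11eb44be11eb44be11eb4ff55aa00ff55aa00ff55aa00ff55aa00c693396cc693396cc693396cc693396c72278dd872278dd872278dd872278dd81e4be1b41e4be1b41e4be1b41e4be1b4aaff5500aaff5500aaff5500aaff55006c6c6c6c6c6c6c6c6c6c6c6c6c6c6c6cd8d8d8d8d8d8d8d8d8d8d8d8d8d8d8d8b4b4b4b4b4b4b4b4b4b4b4b4b4b4b4b400000000000000000000000000000000)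 (Nat.add (Nat.mul 64 x) y)

/-- Scalar multiplication on three coordinates. -/
def sm3 (c x : ℕ) : ℕ := getP 6 63 (nat_lit 0xaa9ae89a59e4badbec8a18e06996d85955d479d7dc4914d0eb9ef8db5df4fbdffccb1cf02892c81851c438d3cc0810c055759475f79c65b698453490d77db4f7ffbce7beb8c73cb09679a4b6fbaca6baa88638a014718434f38c24b288043080ffef7cefae78df6d74cf2c70beeb6caeaa689e69648e28607de75c6da6585d65544d24503ce34c2ca2481c61440c2040000000000000000000000000000000000000000000000000000000000000000000000000000000000000000000000000) (Nat.add (Nat.mul 64 c) x)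

/-- The hermitian form on codes. -/
def fm (u v : ℕ) : ℕ :=
  Nat.xor (fm3 (Nat.land u 63) (Nat.land v 63)) (fm3 (Nat.shiftRight u 6) (Nat.shiftRight v 6))

/-- Scalar multiplication on codes. -/
def sm (c u : ℕ) : ℕ := Nat.lor (sm3 c (Nat.land u 63)) (Nat.shiftLeft (sm3 c (Nat.shiftRight u 6)) 6)

/-- Transvections on codes. -/
noncomputable def tv (u v : ℕ) : ℕ := force v fun v => Nat.xor v (sm (fm v u) u)

/-- Codes of non-zero isotropic vectors. -/
noncomputable def iso (u : ℕ) : Bool := band (blt u 4096) (band (blt 0 u) (Nat.beq (fm u u) 0))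

/-- The least code of a non-zero multiple. -/
noncomputable def nrm (u : ℕ) : ℕ :=
  force u fun u => force (sm 2 u) fun a => force (Nat.xor u a) fun b =>
    ifLt u a (ifLt u b u b) (ifLt a b a b)

theorem ofCode_xor (a b : ℕ) : TF.ofCode gf4 (a ^^^ b) = TF.ofCode gf4 a + TF.ofCode gf4 b := by
  have h : ∀ x < 4, ∀ y < 4, TF.ofCode gf4 (x ^^^ y) = TF.ofCode gf4 x + TF.ofCode gf4 y := by
    decide
  have k : ∀ x : ℕ, TF.ofCode gf4 (x % 2 ^ 2) = TF.ofCode gf4 x := fun x =>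
    TF.ext_code (Nat.mod_mod x 4)
  rw [← k, Nat.xor_mod_two_pow, ← k a, ← k b]
  exact h _ (Nat.mod_lt _ (by decide)) _ (Nat.mod_lt _ (by decide))

theorem dec_xor (u v : ℕ) : dec (u ^^^ v) = dec u + dec v := funext fun _ =>
  (congrArg (TF.ofCode gf4) Nat.shiftRight_xor_distrib).trans (ofCode_xor _ _)

theorem xor_lt {u v : ℕ} (hu : u < 4096) (hv : v < 4096) : u ^^^ v < 4096 :=
  Nat.xor_lt_two_pow (n := 12) hu hv

theorem sm_spec {c u : ℕ} (hc : c < 4) (hu : u < 4096) :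
    sm c u < 4096 ∧ dec (sm c u) = TF.ofCode gf4 c • dec u := by
  have h : allLt 4 (fun c => allRange 0 4096 fun u => force (sm c u) fun s => band (blt s 4096)
      (allLt 6 fun i => Nat.beq (Nat.mod (Nat.shiftRight s (Nat.mul 2 i)) 4)
        (gf4.mul c (Nat.mod (Nat.shiftRight u (Nat.mul 2 i)) 4)))) = true := by decide +kernel
  have h1 := allRange_zero ((allLt_iff _ _).1 h c hc) u hu
  simp only [force_eq, band_iff, blt_iff, allLt_iff, nbeq_iff] at h1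
  refine ⟨h1.1, funext fun i => TF.ext_code ((h1.2 i i.2).trans ?_)⟩
  rw [Pi.smul_apply, smul_eq_mul, TF.code_mul, TF.code_ofCode_of_lt (show c < gf4.q from hc)]
  rfl

theorem fm_spec {u v : ℕ} (hu : u < 4096) (hv : v < 4096) :
    fm u v < 4 ∧ B6 (dec u) (dec v) = TF.ofCode gf4 (fm u v) := by
  have h : ∀ x < 64, ∀ y < 64, fm3 x y < 4 ∧ TF.ofCode gf4 (fm3 x y) =
      dec x 0 * s4 (dec y 0) + dec x 1 * s4 (dec y 1) + dec x 2 * s4 (dec y 2) := by decide +kernel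
  have k : allRange 0 4096 (fun u => decide (Nat.land u 63 < 64 ∧ Nat.shiftRight u 6 < 64 ∧
      dec (Nat.land u 63) 0 = dec u 0 ∧ dec (Nat.land u 63) 1 = dec u 1 ∧
      dec (Nat.land u 63) 2 = dec u 2 ∧ dec (Nat.shiftRight u 6) 0 = dec u 3 ∧
      dec (Nat.shiftRight u 6) 1 = dec u 4 ∧ dec (Nat.shiftRight u 6) 2 = dec u 5)) = true := by
    decide +kernel
  obtain ⟨a1, a2, a3, a4, a5, a6, a7, a8⟩ := of_decide_eq_true (allRange_zero k u hu)
  obtain ⟨b1, b2, b3, b4, b5, b6, b7, b8⟩ := of_decide_eq_true (allRange_zero k v hv)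
  refine ⟨Nat.xor_lt_two_pow (n := 2) (h _ a1 _ b1).1 (h _ a2 _ b2).1, ?_⟩
  refine Eq.trans ?_ (ofCode_xor _ _).symm
  rw [(h _ a1 _ b1).2, (h _ a2 _ b2).2, a3, a4, a5, a6, a7, a8, b3, b4, b5, b6, b7, b8, uStd_apply,
    Fin.sum_univ_six]
  ring

theorem dec_eq_zero {u : ℕ} (hu : u < 4096) : dec u = 0 ↔ u = 0 := by
  have k : allRange 0 4096 (fun u => bor (Nat.beq u 0) (!allLt 6 fun i =>
      Nat.beq (Nat.mod (Nat.shiftRight u (Nat.mul 2 i)) 4) 0)) = true := by decide +kernel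
  refine ⟨fun h => ?_, fun h => by subst h; decide⟩
  have h1 := allRange_zero k u hu
  rw [bor_iff, nbeq_iff, Bool.not_eq_true', ← Bool.not_eq_true, allLt_iff] at h1
  exact h1.resolve_right fun h2 => h2 fun i hi =>
    (nbeq_iff _ _).2 (congrArg TF.code (congrFun h ⟨i, hi⟩))

theorem dec_inj {u v : ℕ} (hu : u < 4096) (hv : v < 4096) (h : dec u = dec v) : u = v :=
  Nat.xor_eq_zero_iff.1 ((dec_eq_zero (xor_lt hu hv)).1 (by rw [dec_xor, h, v6_add_self]))

theorem dec_surj (v : V6) : ∃ u < 4096, dec u = v := by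
  have h : Function.Bijective fun i : Fin 4096 => dec i :=
    (Fintype.bijective_iff_injective_and_card _).2 ⟨fun i j e => Fin.ext (dec_inj i.2 j.2 e), by
      rw [Fintype.card_fun, card_GF4]; simp⟩
  obtain ⟨i, hi⟩ := h.2 v
  exact ⟨i, i.2, hi⟩

theorem ofCode_eq_zero {c : ℕ} (hc : c < 4) : TF.ofCode gf4 c = 0 ↔ c = 0 := by
  revert c; decide

theorem fm_eq_zero {u v : ℕ} (hu : u < 4096) (hv : v < 4096) : B6 (dec u) (dec v) = 0 ↔ fm u v = 0 := by
  rw [(fm_spec hu hv).2, ofCode_eq_zero (fm_spec hu hv).1]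

theorem iso_iff {u : ℕ} : iso u = true ↔ u < 4096 ∧ Iso (dec u) := by
  simp only [iso, band_iff, blt_iff, nbeq_iff, Iso]
  exact and_congr_right fun h => by rw [ne_eq, dec_eq_zero h, fm_eq_zero h h, Nat.pos_iff_ne_zero]

theorem exists_iso {v : V6} (hv : Iso v) : ∃ u, iso u = true ∧ dec u = v :=
  let ⟨u, h1, h2⟩ := dec_surj v; ⟨u, iso_iff.2 ⟨h1, h2 ▸ hv⟩, h2⟩

theorem tv_spec {u v : ℕ} (hu : u < 4096) (hv : v < 4096) :
    tv u v < 4096 ∧ dec (tv u v) = tvV (dec u) (dec v) := by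
  obtain ⟨h1, h2⟩ := fm_spec hv hu
  obtain ⟨h3, h4⟩ := sm_spec h1 hu
  exact ⟨xor_lt hv h3, (dec_xor _ _).trans (by rw [h4, tvV, h2])⟩

theorem iso_tv {u v : ℕ} (hu : iso u = true) (hv : iso v = true) : iso (tv u v) = true := by
  rw [iso_iff] at hu hv ⊢
  exact ⟨(tv_spec hu.1 hv.1).1, (tv_spec hu.1 hv.1).2 ▸ hv.2.tv hu.2.2⟩

theorem nrm_spec {u : ℕ} (hu : u < 4096) : nrm u < 4096 ∧ ∃ c : F4, c ≠ 0 ∧ dec (nrm u) = c • dec u := by
  obtain ⟨h1, h2⟩ := sm_spec (c := 2) (by decide) hu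
  have a : u < 4096 ∧ ∃ c : F4, c ≠ 0 ∧ dec u = c • dec u := ⟨hu, 1, one_ne_zero, (one_smul _ _).symm⟩
  have b : sm 2 u < 4096 ∧ ∃ c : F4, c ≠ 0 ∧ dec (sm 2 u) = c • dec u := ⟨h1, _, by decide, h2⟩
  have c : u ^^^ sm 2 u < 4096 ∧ ∃ c : F4, c ≠ 0 ∧ dec (u ^^^ sm 2 u) = c • dec u :=
    ⟨xor_lt hu h1, 1 + TF.ofCode gf4 2, by decide, by rw [dec_xor, h2, add_smul, one_smul]⟩
  simp only [nrm, force_eq, ifLt_eq]
  split_ifs <;> assumption

theorem iso_nrm {u : ℕ} (hu : iso u = true) : iso (nrm u) = true := by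
  rw [iso_iff] at hu ⊢
  obtain ⟨h1, c, h2, h3⟩ := nrm_spec hu.1
  exact ⟨h1, h3 ▸ hu.2.smul h2⟩

/-- `u` and `v` span a totally isotropic line. -/
noncomputable def lineOK (u v : ℕ) : Bool :=
  band (iso u) <| band (iso v) <| band (Nat.beq (fm u v) 0) <|
    allLt 4 fun c => !Nat.beq v (sm c u)

theorem lineOK_spec {u v : ℕ} (h : lineOK u v = true) : (u < 4096 ∧ Iso (dec u)) ∧
    (v < 4096 ∧ Iso (dec v)) ∧ B6 (dec u) (dec v) = 0 ∧ ∀ c : F4, dec v ≠ c • dec u := by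
  simp only [lineOK, band_iff, iso_iff, nbeq_iff, allLt_iff] at h
  obtain ⟨h1, h2, h3, h4⟩ := h
  refine ⟨h1, h2, (fm_eq_zero h1.1 h2.1).2 h3, fun c e => ?_⟩
  have h5 := h4 c.code c.code_lt
  obtain ⟨h6, h7⟩ := sm_spec c.code_lt h1.1
  rw [TF.ofCode_code, ← e] at h7
  rw [dec_inj h6 h2.1 h7, (nbeq_iff _ _).2 rfl] at h5
  exact absurd h5 (by decide)

/-- The code of `v + c • u`. -/
def ln (u v c : ℕ) : ℕ := Nat.xor v (sm c u)

theorem ln_spec {u v c : ℕ} (hu : u < 4096) (hv : v < 4096) (hc : c < 4) :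
    ln u v c < 4096 ∧ dec (ln u v c) = dec v + TF.ofCode gf4 c • dec u :=
  ⟨xor_lt hv (sm_spec hc hu).1, (dec_xor _ _).trans (by rw [(sm_spec hc hu).2])⟩

theorem iso_ln {u v c : ℕ} (h : lineOK u v = true) (hc : c < 4) : iso (ln u v c) = true := by
  obtain ⟨h1, h2, h3, h4⟩ := lineOK_spec h
  exact iso_iff.2 ⟨(ln_spec h1.1 h2.1 hc).1, (ln_spec h1.1 h2.1 hc).2 ▸ h1.2.add_smul h2.2 h3 h4 _⟩

variable {G : Type*} [Group G] {X Y : Set G} {ρ : V6 → G}

theorem UFr.nrm (h : UFr ρ X) {u : ℕ} (hu : iso u = true) : ρ (dec (nrm u)) = ρ (dec u) := by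
  rw [iso_iff] at hu
  obtain ⟨-, c, h2, h3⟩ := nrm_spec hu.1
  rw [h3, h.smul hu.2 h2]

theorem UFr.cj_code (h : UFr ρ X) {u v : ℕ} (hu : iso u = true) (hv : iso v = true) :
    cj (ρ (dec u)) (ρ (dec v)) = ρ (dec (tv u v)) := by
  rw [iso_iff] at hu hv
  rw [(tv_spec hu.1 hv.1).2, h.cj_eq _ _ hu.2 hv.2]

theorem UFr.commute_code (h : UFr ρ X) {u v : ℕ} (hu : iso u = true) (hv : iso v = true) :
    Commute (ρ (dec u)) (ρ (dec v)) ↔ fm v u = 0 := by
  rw [iso_iff] at hu hv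
  rw [h.commute_iff hu.2 hv.2, fm_eq_zero hv.1 hu.1]

/-- The hyperoval rule on codes. -/
theorem LocU.hyperoval_code (h : LocU Y) {a b : G} (ha : a ∈ Y) (hb : b ∈ Y) (hab : ¬ Commute a b)
    (hρ : UFr ρ (Dx Y a)) {u v : ℕ} (hl : lineOK u v = true) (hub : Commute b (ρ (dec u))) :
    ∃! c, c < 4 ∧ Commute b (ρ (dec (ln u v c))) := by
  obtain ⟨h1, h2, h3, h4⟩ := lineOK_spec hl
  obtain ⟨c, h5, h6⟩ := h.hyperoval ha hb hab hρ h1.2 h2.2 h3 h4 hub
  refine ⟨c.code, ⟨c.code_lt, by rwa [(ln_spec h1.1 h2.1 c.code_lt).2, TF.ofCode_code]⟩,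
    fun d ⟨h7, h8⟩ => ?_⟩
  rw [(ln_spec h1.1 h2.1 h7).2] at h8
  rw [← h6 _ h8, TF.code_ofCode_of_lt (show d < gf4.q from h7)]

/-- Labels showing that every isotropic vector is reached from the letters `L x`, `x < m`. The label
is `16 * depth + letter`. -/
noncomputable def covOK (L : ℕ → ℕ) (m : ℕ) (E : ℕ → ℕ) : Bool :=
  band (allLt m fun x => iso (L x)) <| allRange 0 4096 fun u => bor (!iso u) <|
    force (E u) fun e => force (Nat.land e 15) fun x => band (blt x m) <|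
      bor (Nat.beq (nrm u) (nrm (L x))) (blt (Nat.lor (E (tv (L x) u)) 15) e)

theorem cover_ind {L : ℕ → ℕ} {m : ℕ} {E : ℕ → ℕ} (h : covOK L m E = true) {P : V6 → Prop}
    (h0 : ∀ x < m, P (dec (L x))) (h1 : ∀ x < m, ∀ v, Iso v → P v → P (tvV (dec (L x)) v))
    (h2 : ∀ c : F4, c ≠ 0 → ∀ v, Iso v → P v → P (c • v)) {v : V6} (hv : Iso v) : P v := by
  rw [covOK, band_iff, allLt_iff] at h
  obtain ⟨u, hu, rfl⟩ := exists_iso hv
  clear hv
  induction hn : E u using Nat.strong_induction_on generalizing u with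
  | h n ih =>
  have h3 := allRange_zero h.2 u (iso_iff.1 hu).1
  simp only [hu, Bool.not_true, bor_iff, Bool.false_eq_true, false_or, force_eq, band_iff, blt_iff,
    nbeq_iff] at h3
  obtain ⟨h4, h5⟩ := h3
  have h6 := h.1 _ h4
  rcases h5 with h5 | h5
  · obtain ⟨-, c, h7, h8⟩ := nrm_spec (iso_iff.1 hu).1
    obtain ⟨-, d, h9, h10⟩ := nrm_spec (iso_iff.1 h6).1
    have := h2 (c⁻¹ * d) (mul_ne_zero (inv_ne_zero h7) h9) _ (iso_iff.1 h6).2 (h0 _ h4)
    rwa [mul_smul, ← h10, ← h5, h8, inv_smul_smul₀ h7] at this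
  · have h7 := iso_tv h6 hu
    have := h1 _ h4 _ (iso_iff.1 h7).2 (ih _ (hn ▸ lt_of_le_of_lt Nat.left_le_or h5) _ h7 rfl)
    rwa [(tv_spec (iso_iff.1 h6).1 (iso_iff.1 hu).1).2, tv_tv (iso_iff.1 h6).2.2] at this

/-! ### Point systems and certificates -/

/-- Points `ok`, letters `okL` acting by `T` and standing for the points `lp x`; `q` parametrises the
common neighbours of the points of `Bs` by codes of vectors. -/
structure PSys where
  ok : ℕ → Bool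
  okL : ℕ → Bool
  T : ℕ → ℕ → ℕ
  lp : ℕ → ℕ
  Bs : List ℕ
  q : ℕ → ℕ

/-- The points are realised in a group. -/
structure PSys.Real (S : PSys) (Ψ : ℕ → G) : Prop where
  act : ∀ x i, S.okL x = true → S.ok i = true →
    S.ok (S.T x i) = true ∧ cj (Ψ (S.lp x)) (Ψ i) = Ψ (S.T x i)
  sq : ∀ x, S.okL x = true → S.ok (S.lp x) = true ∧ Ψ (S.lp x) * Ψ (S.lp x) = 1
  qok : ∀ u, iso u = true → S.ok (S.q u) = true

/-- The hyperoval rule holds for the elements satisfying `P`. -/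
structure PSys.Rule (S : PSys) (Ψ : ℕ → G) (P : G → Prop) : Prop where
  mv : ∀ x b, S.okL x = true → P b → P (cj (Ψ (S.lp x)) b)
  rule : ∀ b, P b → (∀ s ∈ S.Bs, Commute b (Ψ s)) → ∀ u v, lineOK u v = true →
    Commute b (Ψ (S.q u)) → ∃! c, c < 4 ∧ Commute b (Ψ (S.q (ln u v c)))

/-- Some element satisfying `P` commutes with the points of `L`. -/
def PSys.Good (S : PSys) (Ψ : ℕ → G) (P : G → Prop) (L : List ℕ) : Prop :=
  ∃ b, P b ∧ ∀ s ∈ L, S.ok s = true ∧ Commute b (Ψ s)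

/-- Certificates. -/
inductive Cert : Type
  | done (k : ℕ) : Cert
  | der (w : List ℕ) (x y : ℕ) (n : Cert) : Cert
  | mv (w : List ℕ) (n : Cert) : Cert
  | br (u v : ℕ) (c0 c1 c2 c3 : Cert) : Cert
  | bad (u v c : ℕ) : Cert

/-- Membership in a list of numbers. -/
noncomputable def memL (L : List ℕ) (x : ℕ) : Bool := !allL L fun y => !Nat.beq y x

theorem memL_iff {L : List ℕ} {x : ℕ} : memL L x = true ↔ x ∈ L := by
  rw [memL, Bool.not_eq_true', ← Bool.not_eq_true, allL_iff]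
  simp

/-- `List.map` that evaluates the entries and passes the list on. -/
noncomputable def mapK {α : Type} (f : ℕ → ℕ) (L : List ℕ) : (List ℕ → α) → α :=
  List.rec (motive := fun _ => (List ℕ → α) → α) (fun k => k [])
    (fun x _ ih k => force (f x) fun y => ih fun l => k (y :: l)) L

theorem mapK_eq {α : Type} (f : ℕ → ℕ) (L : List ℕ) (k : List ℕ → α) : mapK f L k = k (L.map f) := by
  induction L generalizing k with
  | nil => rfl
  | cons x L ih => exact ih _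

/-- The conjugate of the point `y` under the point `w · lp x`. -/
noncomputable def PSys.tr (S : PSys) (w : List ℕ) (x y : ℕ) : ℕ :=
  traceP S.T w (S.T x (traceP S.T (invW id w) y))

/-- The checker. -/
noncomputable def PSys.check (S : PSys) (K : ℕ) (Tg : ℕ → List ℕ) (c : Cert) : List ℕ → Bool :=
  Cert.rec (motive := fun _ => List ℕ → Bool)
    (fun k L => band (blt k K) (allL (Tg k) (memL L)))
    (fun w x y _ ih L => band (allL (x :: w) S.okL) <| band (memL L (traceP S.T w (S.lp x))) <|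
      band (memL L y) <| force (S.tr w x y) fun z => ih (z :: L))
    (fun w _ ih L => band (allL w S.okL) (mapK (traceP S.T w) L ih))
    (fun u v _ _ _ _ i0 i1 i2 i3 L => band (lineOK u v) <| band (allL (S.q u :: S.Bs) (memL L)) <|
      band (force (S.q (ln u v 0)) fun z => i0 (z :: L)) <|
      band (force (S.q (ln u v 1)) fun z => i1 (z :: L)) <|
      band (force (S.q (ln u v 2)) fun z => i2 (z :: L)) (force (S.q (ln u v 3)) fun z => i3 (z :: L)))
    (fun u v c L => band (lineOK u v) <| band (band (blt 0 c) (blt c 4)) <|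
      allL (S.q u :: S.q (ln u v 0) :: S.q (ln u v c) :: S.Bs) (memL L)) c

namespace PSys

variable {S : PSys} {Ψ : ℕ → G} {P : G → Prop}

theorem Real.word (h : S.Real Ψ) {w : List ℕ} (hw : ∀ x ∈ w, S.okL x = true) {i : ℕ}
    (hi : S.ok i = true) : S.ok (traceP S.T w i) = true ∧
      cj (evalW (fun x => Ψ (S.lp x)) w) (Ψ i) = Ψ (traceP S.T w i) := by
  induction w with
  | nil => exact ⟨hi, cj_one _⟩
  | cons x w ih =>
    obtain ⟨h1, h2⟩ := ih fun y hy => hw y (by simp [hy])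
    obtain ⟨h3, h4⟩ := h.act x _ (hw x (by simp)) h1
    exact ⟨h3, by rw [evalW_cons, ← cj_cj, h2, h4]; rfl⟩

theorem mem_invW {w : List ℕ} {x : ℕ} (hx : x ∈ invW id w) : x ∈ w := by
  have : ∀ (l acc : List ℕ), x ∈ invWA id l acc → x ∈ l ∨ x ∈ acc := fun l => by
    induction l with
    | nil => exact fun acc h => Or.inr h
    | cons y w ih =>
      intro acc h
      have := ih (y :: acc) h
      simp only [List.mem_cons] at this ⊢
      tauto
  simpa using this w [] hx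

theorem Real.tr (h : S.Real Ψ) {w : List ℕ} {x y : ℕ} (hw : ∀ z ∈ x :: w, S.okL z = true)
    (hy : S.ok y = true) : S.ok (S.tr w x y) = true ∧
      cj (Ψ (traceP S.T w (S.lp x))) (Ψ y) = Ψ (S.tr w x y) := by
  have hx := hw x (by simp)
  have hw' : ∀ z ∈ w, S.okL z = true := fun z hz => hw z (by simp [hz])
  obtain ⟨h1, h2⟩ := h.word (fun z hz => hw' z (mem_invW hz)) hy
  obtain ⟨h3, h4⟩ := h.act x _ hx h1
  obtain ⟨h5, h6⟩ := h.word hw' h3
  refine ⟨h5, Eq.trans ?_ h6⟩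
  rw [← h4, ← h2, evalW_invW (inv := id) fun z hz => (h.sq z (hw' z hz)).2, cj_dist, cj_cj_inv,
    (h.word hw' (h.sq x hx).1).2]

theorem Rule.word (h : S.Rule Ψ P) {w : List ℕ} (hw : ∀ x ∈ w, S.okL x = true) {b : G} (hb : P b) :
    P (cj (evalW (fun x => Ψ (S.lp x)) w) b) := by
  induction w with
  | nil => rwa [evalW_nil, cj_one]
  | cons x w ih =>
    rw [evalW_cons, ← cj_cj]
    exact h.mv x _ (hw x (by simp)) (ih fun y hy => hw y (by simp [hy]))

theorem sound (h : S.Real Ψ) (hr : S.Rule Ψ P) {K : ℕ} {Tg : ℕ → List ℕ} {c : Cert} {L : List ℕ}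
    (hc : S.check K Tg c L = true) (hL : S.Good Ψ P L) : ∃ k < K, S.Good Ψ P (Tg k) := by
  induction c generalizing L with
  | done k =>
    obtain ⟨b, h1, h2⟩ := hL
    replace hc := (band_iff _ _).1 hc
    exact ⟨k, (blt_iff _ _).1 hc.1, b, h1, fun s hs =>
      h2 s (memL_iff.1 ((allL_iff _ _).1 hc.2 s hs))⟩
  | der w x y n ih =>
    obtain ⟨b, h1, h2⟩ := hL
    obtain ⟨a1, a2⟩ := (band_iff _ _).1 hc
    obtain ⟨a2, a3⟩ := (band_iff _ _).1 a2
    obtain ⟨a3, a4⟩ := (band_iff _ _).1 a3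
    obtain ⟨b1, b2⟩ := h2 _ (memL_iff.1 a3)
    obtain ⟨b3, b4⟩ := h.tr ((allL_iff _ _).1 a1) b1
    exact ih a4 ⟨b, h1, List.forall_mem_cons.2
      ⟨⟨b3, b4 ▸ commute_cj_of_commute (h2 _ (memL_iff.1 a2)).2 b2⟩, h2⟩⟩
  | mv w n ih =>
    obtain ⟨b, h1, h2⟩ := hL
    obtain ⟨a1, a2⟩ := (band_iff _ _).1 hc
    rw [mapK_eq] at a2
    rw [allL_iff] at a1
    refine ih a2 ⟨_, hr.word a1 h1, List.forall_mem_map.2 fun s hs => ?_⟩
    obtain ⟨b1, b2⟩ := h.word a1 (h2 s hs).1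
    exact ⟨b1, b2 ▸ commute_cj.2 (h2 s hs).2⟩
  | br u v c0 c1 c2 c3 i0 i1 i2 i3 =>
    obtain ⟨b, h1, h2⟩ := hL
    obtain ⟨a1, a2⟩ := (band_iff _ _).1 hc
    obtain ⟨a2, a3⟩ := (band_iff _ _).1 a2
    obtain ⟨a3, a4⟩ := (band_iff _ _).1 a3
    obtain ⟨a4, a5⟩ := (band_iff _ _).1 a4
    obtain ⟨a5, a6⟩ := (band_iff _ _).1 a5
    rw [allL_iff, List.forall_mem_cons] at a2
    obtain ⟨c, ⟨b1, b2⟩, -⟩ := hr.rule b h1 (fun s hs => (h2 s (memL_iff.1 (a2.2 s hs))).2) u v a1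
      (h2 _ (memL_iff.1 a2.1)).2
    have b3 : S.Good Ψ P (S.q (ln u v c) :: L) :=
      ⟨b, h1, List.forall_mem_cons.2 ⟨⟨h.qok _ (iso_ln a1 b1), b2⟩, h2⟩⟩
    interval_cases c
    exacts [i0 a3 b3, i1 a4 b3, i2 a5 b3, i3 a6 b3]
  | bad u v c =>
    obtain ⟨b, h1, h2⟩ := hL
    obtain ⟨a1, a2⟩ := (band_iff _ _).1 hc
    obtain ⟨a2, a3⟩ := (band_iff _ _).1 a2
    rw [band_iff, blt_iff, blt_iff] at a2
    simp only [allL_iff, List.forall_mem_cons, memL_iff] at a3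
    have := (hr.rule b h1 (fun s hs => (h2 s (a3.2.2.2 s hs)).2) u v a1 (h2 _ a3.1).2).unique
      ⟨by decide, (h2 _ a3.2.1).2⟩ ⟨a2.2, (h2 _ a3.2.2.1).2⟩
    omega

theorem not_good (h : S.Real Ψ) (hr : S.Rule Ψ P) {c : Cert} {L : List ℕ}
    (hc : S.check 0 (fun _ => []) c L = true) : ¬ S.Good Ψ P L := fun hL =>
  let ⟨_, hk, _⟩ := sound h hr hc hL; Nat.not_lt_zero _ hk

end PSys

end Cfsg.Agent.Spor.TT
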