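import Mathlib
import Cfsg.Prelude.Def_FischerSpaces
import Cfsg.Agent.Spor.FiType
import Cfsg.Agent.Spor.FiGen
import Cfsg.Agent.Spor.FiU.TC22
import Cfsg.Agent.Spor.FiU.TC22k
import Cfsg.Agent.Spor.Fi22.Extra

/-!
Uniqueness of the 3-transposition groups of type `M(22)`.
-/

set_option autoImplicit false
set_option exponentiation.threshold 100000

namespace Cfsg.Agent.Spor.TT

open Cfsg.Agent.Cl Cfsg.Agent.Spor Cfsg.Agent.Spor.FiU

variable {G : Type*} [Group G] {D X Y : Set G} {ρ : V6 → G} {a b : G} {u v : ℕ}

/-- The product of the five points of a line. -/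
def five (Ψ : ℕ → G) (u v : ℕ) : G :=
  Ψ u * (Ψ (ln u v 0) * (Ψ (ln u v 1) * (Ψ (ln u v 2) * Ψ (ln u v 3))))

theorem five_eq (hl : lineOK u v = true) : five (fun u => ρ (dec u)) u v = ρ (dec u) *
    (ρ (dec v + (0 : F4) • dec u) * (ρ (dec v + (1 : F4) • dec u) * (ρ (dec v + om • dec u) *
      ρ (dec v + (om + 1) • dec u)))) := by
  obtain ⟨h1, h2, -⟩ := lineOK_spec hl
  simp only [five, (ln_spec h1.1 h2.1 (show 0 < 4 by decide)).2,
    (ln_spec h1.1 h2.1 (show 1 < 4 by decide)).2, (ln_spec h1.1 h2.1 (show 2 < 4 by decide)).2,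
    (ln_spec h1.1 h2.1 (show 3 < 4 by decide)).2]
  rfl

theorem UFr.five_mem (h : UFr ρ X) (hl : lineOK u v = true) :
    five (fun u => ρ (dec u)) u v ∈ Subgroup.closure X := by
  have k := fun c hc => Subgroup.subset_closure (h.mem _ (iso_iff.1 (iso_ln (c := c) hl hc)).2)
  exact mul_mem (Subgroup.subset_closure (h.mem _ (lineOK_spec hl).1.2)) (mul_mem (k 0 (by decide))
    (mul_mem (k 1 (by decide)) (mul_mem (k 2 (by decide)) (k 3 (by decide)))))

theorem LocU.exists_ad (h : LocU Y) (ha : a ∈ Y) (hρ : UFr ρ (Dx Y a)) (hl : lineOK u v = true) :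
    ∃ t ∈ Ax Y a, Commute (a * five (fun u => ρ (dec u)) u v) t := by
  obtain ⟨h1, h2, h3, h4⟩ := lineOK_spec hl
  have hx := hρ.mem _ h1.2
  obtain ⟨t, ht, hn⟩ := (h.loc _ hx.1).exists_not_commute ⟨ha, hx.2.1.symm, hx.2.2.symm⟩
  refine ⟨t, ⟨ht.1, hn⟩, ?_⟩
  rw [five_eq hl, ← mul_assoc, hx.2.2.eq, mul_assoc]
  exact ht.2.2.mul_left (h.hexad ha hρ h1.2 h2.2 h3 h4 ht)

/-- The hexad relation. -/
theorem Fis.hexad [Finite G] (hF : Fis D) (hZ : Subgroup.center G = ⊥) (h : LocU D) (ha : a ∈ D)
    (hρ : UFr ρ (Dx D a)) (hl : lineOK u v = true) : a * five (fun u => ρ (dec u)) u v = 1 := by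
  obtain ⟨t, ht, h1⟩ := h.exists_ad ha hρ hl
  obtain ⟨h2, h3, h4, h5⟩ := lineOK_spec hl
  exact hF.eq_one_of_commute hZ ha ht ((Commute.refl a).mul_left
    (commute_of_mem_closure_Dx (hρ.five_mem hl)).symm)
    (fun x hx => hx.2.2.mul_left (five_eq (ρ := ρ) hl ▸ hρ.commute_five h2.2 h3.2 h4 h5 hx)) h1

/-- The three lists differ by a diagonal automorphism. -/
theorem UFr.normalize (h : UFr ρ X) {k : ℕ} (hk : k < 3)
    (hb : ∀ s ∈ listA k, iso s = true ∧ Commute b (ρ (dec s))) :
    ∃ ρ', UFr ρ' X ∧ ∀ s ∈ listA 0, Commute b (ρ' (dec s)) := by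
  have key : ∀ c : F4, URefl B6 (dec 1) c → (∀ s ∈ listA 0, ∃ t ∈ listA k, ∃ e : F4, e ≠ 0 ∧
      dec s + (c * B6 (dec s) (dec 1)) • dec 1 = e • dec t) →
      ∃ ρ', UFr ρ' X ∧ ∀ s ∈ listA 0, Commute b (ρ' (dec s)) := fun c h1 h2 =>
    ⟨_, h.comp (herm6.uRefl_mem h1), fun s hs => by
      obtain ⟨t, ht, e, h3, h4⟩ := h2 s hs
      rw [Function.comp, h1.apply, h4, h.smul (iso_iff.1 (hb t ht).1).2 h3]
      exact (hb t ht).2⟩
  interval_cases k
  · exact key 0 (by unfold URefl; decide +kernel) (by decide +kernel)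
  · exact key (om + 1) (by unfold URefl; decide +kernel) (by decide +kernel)
  · exact key om (by unfold URefl; decide +kernel) (by decide +kernel)

/-- Codes of the letters `c d e f g h i r s`. -/
def cd22 : ℕ → ℕ := getP 12 4095 (nat_lit 0x50b5a0600506050060056005006)

/-- Labels for the orbit of the letters. -/
def cov22 : ℕ → ℕ := getP 9 511 (nat_lit 0x733d8820081895ac001ab19cc000000000832bb99ec006b3d88e00830ddac000000000178295dcc0033b19ec006b3988e000000000870000000f70000000f10000000d683b95cc0023b55cc00734186e007b09d8c00000000027731cd8c0041b99ec006b418c6000000000836b41ca2007b8d5cc0022b59ec000000000720000000d60000000f50000000f673405cc007b19dac003bb5a0c0073bd8ae00000000077633d8c20073115aa002ab9e0a0000000006231b5a0c0063398a6007b10dcc000000000070000000f60000000d60000000f672b9a06000000000e60000001050000000e67b3d5ec000000000e60000000e60000001077b3d9ee000000001030000000e60000000e67b3d5ec00311c80a0040894e4000aa0504000000001066bb952c00799d98e00432ddae000000000772335dce0063b8cac007b9998e000000000867a119a2001b2d5c20062b48ac00000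0000360000000e50000000e30000000c77ab5dae002b31dae006bbdccc00739d96e000000000766b9996e002b355ce0063bdcec0000000001763bd10c0072199a6003b30dc6000000000830000000c50000000e50000000e16abc9aa0071959860023315e6006ab88cc000000000265bb84ec00691598e0033351e0000000000941b31dee005bb5c8c0072959aa000000000960000000e50000000c70000000e76bb5dea000000000d50000000f10000000d772b89ca000000000d50000000d30000000f172b8dca000000000f50000000d70000000d373b9dc6001b218ee004b2584c0043058ec000000000f5400dd4e0013a1ce2004b9948e000000000e36998d2a0039ac1c80050b50a6000000000b3512458e0042a896a005931d4e00000000085000000071000000052000000070311850000729d10a0042281a20048b08c8000000000c443ac5c60052b092e006929d86000000000653810d66001aa4cc20051954a6000000000d400000009300000007300000009341a0d460049285ae004aac94e00612dd6e0000000007530151880022a94a2005a114c8000000000c26115d4a0033b01aa0058b8c8e000000000a70000000940000000740000000954221142000000000840000000640000000843a1d128000000000a30000000830000000a549a4d6200000000081000000062000000085391c5220062b48ce0070a1d62003ba958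4000000000060000000b70000000d70000000b263b098e000000000a40000000c30000000a45a2cd280000000007100000007500000009032a05040052b450e006299d6a003bb19c4000000000870000000920000000b600000009150a9904000000000910000000950000000b042a8546000000000c30000000e30000000c369b49a6005135906006318d620039a95cc000000000a30000000810000000850000000a03aa4528000000000d40000000d10000000b57231582000000000b30000000b700000009763a9d440042ac54800512112a004a2998c000000000a659b98ee006b15d820033ad5ec00000000097493052800591d1420042255ac000000000b64ab1126005a1cd4a0041ad9a4000000000960000000b700000009500000009752a1d4e0023acdc60051b08ae006a99d8a000000000a7583096e0068a5d420053a556400000000075322d08a0062180a8002891548000000000c2000000095000000094000000074522110a00502c98e0060a9d22005aa15440000000008523a5cca0053a006e003889d0e000000000e329a91a8004a34cc600721cd6a000000000b300000007000000007100000005240188c20029a8caa00599c08600308d526000000000d432245840041380e80068a114a000000000c4603554e0070a1d62004ba95840000000006500000009300000009300000007351a0d0600000000085000000081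000000062481c8ea000000000840000000840000000644a1d0e8000000000a50000000a300000008359a4d2a00611dd4a0033b15a40058b850e0000000000672bd886008318dac0029b19cc000000000072bb99ec006b3d8ce00831ddac0000000007783155cc0030b19ec006ab988a000000000620000000f60000000f60000000d683399cc0023b59cc0073414ae007b19d8c00000000087730d58c0020b99ec006b4184a000000000836b4186e007b15dcc0023b59ec000000000170000000d60000000f60000000f173401ca007b115ac0028b5a0400733d86a00000000072633d84e007311dac001bb9a0c0000000002731b5a0c0063398e6007b20dcc000000000830000000f60000000d60000000f67339a0a000000000e60000001060000000e67b3d9ea000000000e60000000e60000001017b3d9ea000000001070000000e60000000e67b3d9ec0041055020002988e400392044a000000001066bb9cac00798d98e00232ddae000000000963334dc80061b8cac007a1198a000000000267a999ae003b2ddc20063b48ac000000000960000000e40000000e10000000c779355ae002b315a4006a3c08c00708d96a000000000366aa196e004b34dca0063bccec0000000007763bdccc0073919ae002b31dc6000000000860000000c70000000e50000000e76bbc5ae00729d986004331dee006bb9ccc000000000865bb9cec006b9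598a003335de8000000000763b31de6005bb5ccc0071159ae000000000170000000e30000000c50000000e56ab55e6000000000d30000000f50000000d771b95c6000000000d70000000d50000000f773b95ce000000000f10000000d50000000d371395c6003b2182c003b8d90c00132592c000000000f70000000970000000b30000000b751b0d4e000000000a00000000840000000854a1d522000000000b50000000d00000000d160b818a00602514a005221562004aa8908000000000a40000000900000000720000000754119502000000000b20000000b70000000d16131d84000000000a40000000a40000000c44a2d16600701dd8a0043a95a2005ab14ce000000000870000000c30000000c30000000e269b4da4000000000910000000920000000b0412854c000000000b000000009300000009551a154200721cd4a0041a89a80058b10c6000000000a36a20d6a0049a55880052ad0e6000000000937819d6a003bacdc20060b54ae00000000097682112a004a249820050ac8e8000000000b40000000970000000b100000009753a950e006ab88ac00789d98e00332ddae000000000173335dce0061b8cec007ba198e000000000867b999ae003b2ddce0062b5cac000000000760000000e50000000e30000000c579b55aa002b31da4006bbd0cc00709d96e000000000966b9196e002b35dca0063bcc6c0000000009662bc88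c0071199aa002b30dc6000000000260000000c70000000e70000000e16bbc1aa00719598e003331de4006bb9c8c000000000865ab846c00691598a0023345e8000000000363b31de6005bb5d0c0073a59a6000000000770000000e30000000c70000000e56bb5dea000000000d30000000f40000000d571b95ca000000000d70000000d30000000f173b8dca000000000f40000000d70000000d573b9dca004b0992c000b1d90c00431dc6c000000000f56125d4a0053b0da40058b8d0e00000000065499846a002a94d460021acce0000000000d45034508006119122003a215c8000000000c700000007300000009300000009341a8d0600529448a002299168002a310c0000000000c260348ce007191d62002ba9584000000000a75929d2a005badd840050b5d2e0000000007500000007400000009500000009442a8508005839ce6006b94d420031a55a6000000000b3512d50a0063a9d640048b1d4a00000000085439c44e003291d2e001ba9d00000000000e300000005200000007000000007130a00c4000000000830000000a50000000a34aac526000000000620000000850000000813aa44e4000000000640000000840000000843a250e80043ac5c20052b08ee006919d8000000000006733d506008318dac0039b19cc000000000861ab99ec006b3d88a0083145ac00000000072830ddcc0013b19ec006b3988e00000000027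0000000f60000000f60000000d683399cc0022b59cc0073418aa007b1858c000000000627314d8c0021b95ec006b418c6000000000076b418ee007b15dcc0033b59ec000000000770000000d60000000f60000000f673419cc007b11dac001bb5a0c00733d8ae00000000017633d8ce007311dac002bb9a0c0000000008712b5a0c00633986a007a905ca000000000830000000f60000000d60000000f67339a0c000000000e60000001060000000e67b3d9ec000000000e60000000e60000001067b3d9ec000000001060000000e60000000e67b3d9ec00129c9020040a082a0039014c4000000001060000000950000000b300000009150a8d0a000000000e20000000c50000000c369345a6000000000b000000009600000009253209420031ad1880052390e6006a20d4a000000000a30000000d10000000b50000000d062b05c0000000000b70000000970000000b353a9d86000000000850000000a400000008148a50ea0042255440051301280058a910a000000000a40000000c40000000a30000000a459a51680000000007500000009100000007140a08ca000000000d20000000b20000000b76131d8e0033ad5860061b8cee0069a1d4a000000000873a285640049341080060a512a000000000b439a9568005a35106006224d2a000000000932bb0da60059bccce00719dd6a000000000970000000970000000970000000b743a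9d4a000000000a70000000a70000000c74badd6c000000000900000000710000000754019502000000000c40000000e40000000e46a3d1a8005ba992e005b24d8c0051ad92c0000000009700000008000000006100000006538154e2000000000a20000000c20000000c15934564000000000970000000b60000000b7533194e0069a1966004b2d1c20062354ec000000000960000000b30000000d30000000d361b8d86000000000870000000a60000000a74b2d92e000000000a0000000081000000085481d52200682196a004b2498200512c8ec000000000b663a594e0053291ac005a3190c00000000087701d98a004328da20059b08cc000000000a661a594a0053209ac00493190c000000000a30000000a60000000a1000000085582552c000000000850000000a000000008148a40ea000000000d30000000b30000000d661b0dc6000000000a70000000870000000a64ba5d6c003aa8964005b3410c0060a5924000000000b60000000e40000000c60000000e66b359e8000000000c70000000a60000000a75b2496e0000000007500000009000000007140a00ca004aa996c004badd4c00632d92c000000000970000000b70000000970000000b653a9d8c00000000065000000080000000061389c0aa000000000c70000000a20000000c6592c9ae003b319ac0059b4d0c00732596c0000000009642a498c005330d2c006b2990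4000000000a3432d98c0053b1d2c006b2994c00000000087332cd840063380ec0068a1946000000000a60000000850000000a60000000a14b2d92a000000000c60000000c10000000a26b2c964000000000b60000000b700000009763a9d46000000000610000000650000000802a9c4e0005a3912c006a1d98600432cda6000000000930000000a60000000a70000000875ba5d2c000000000810000000850000000a03aa4520000000000d60000000d30000000b37330d8600493052c00591c94400432d1a0000000000b400000007100000007500000009032a0500000000000e50000000e10000000c47ab49a8000000000a70000000c60000000a25bad9240049b1d6c005b24d4e005325d6e0000000009751b450c006119966003b311c0000000000a4413514c006220924004b28d86000000000a35235d4c00632196e004b29d8e000000000870000000a10000000850000000a64aa456c0072bd4040080889ea00094060a0000000000419b95ee007bc4846008104dae00000000014838d1c2001239e2e006ac1c88000000000030000000f70000000f10000000f782b960e00223560e0073c1468008a091ce000000000038284a06000138dea0079c0444000000000046bc142600790cdce0011bde2a000000000140000000f70000000f70000000f183c15ca008a88dee0009b5e0a0073bc8660000000001473c5c480083911aa001a3860e00000000003113d6020081c08240079009ca000000000040000000f30000000f70000000f572c1606000000001030000001070000000e789bddea000000000e70000001070000001077bc5dee000000001040000000e70000001057abd62600008440000000042200088000200000000000)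

theorem covOK22 : covOK cd22 8 cov22 = true := by decide +kernel

theorem iso_cd22 : ∀ x < 9, iso (cd22 x) = true := by decide +kernel

/-- The letters `c d e f g h i r s` acting on codes. -/
noncomputable def T22 (x i : ℕ) : ℕ := nrm (tv (cd22 x) i)

/-- The letters `c d e f g h i r s a b`. -/
def let22 (ρ : V6 → G) (a b : G) (x : ℕ) : G :=
  if x < 9 then ρ (dec (cd22 x)) else if x = 9 then a else b

/-- Labels of `b`. -/
def labb (y : ℕ) : ℕ := if y = 0 ∨ y = 7 ∨ y = 9 then 3 else 2

/-- Labels of the letters. -/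
def lab22 (x y : ℕ) : ℕ :=
  if x < 9 ∧ y < 9 then (if fm (cd22 y) (cd22 x) = 0 then 2 else 3) else
    if x = 10 then labb y else if y = 10 then labb x else 2

theorem LocU.lab22 (h : LocU Y) (ha : a ∈ Y) (hb : b ∈ Ax Y a) (hρ : UFr ρ (Dx Y a))
    (hS : ∀ s ∈ listA 0, Commute b (ρ (dec s))) : CLab Y (let22 ρ a b) 11 lab22 := by
  have hR := hρ.real fun x hx => h.tt.set.mul_self hx.1
  have hr := h.rule (P := fun b => b ∈ Ax Y a) ha hρ (fun _ h => h) fun x hx b hb =>
    ⟨h.tt.cj_mem x hx.1 b hb.1, fun e => hb.2 ((commute_cj_right_of hx.2.2.symm).1 e)⟩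
  have h0 : ∀ s ∈ listA 0, iso s = true := by decide +kernel
  have key : ∀ (s : ℕ) (c : Cert), iso s = true → sysU.check 0 (fun _ => []) c (s :: listA 0) = true →
      ¬ Commute b (ρ (dec s)) := fun s c h1 h2 h3 => PSys.not_good hR hr h2
    ⟨b, hb, List.forall_mem_cons.2 ⟨⟨h1, h3⟩, fun t ht => ⟨h0 t ht, hS t ht⟩⟩⟩
  have m : ∀ x < 9, let22 ρ a b x ∈ Dx Y a := fun x hx => by
    rw [let22, if_pos hx]; exact hρ.mem _ (iso_iff.1 (iso_cd22 x hx)).2
  have h1 : ∀ y < 10, Commute a (let22 ρ a b y) := fun y hy => by
    rcases Nat.lt_succ_iff_lt_or_eq.1 hy with hy | rfl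
    exacts [(m y hy).2.2, Commute.refl a]
  have h2 : ∀ y < 11, (labb y = 2 → Commute b (let22 ρ a b y)) ∧
      (labb y = 3 → ¬ Commute b (let22 ρ a b y)) := fun y hy => by
    interval_cases y
    · exact ⟨fun e => absurd e (by decide), fun _ => key 6 certAc (by decide +kernel) (by decide +kernel)⟩
    iterate 6 exact ⟨fun _ => hS _ (by decide +kernel), fun e => absurd e (by decide)⟩
    · exact ⟨fun e => absurd e (by decide),
        fun _ => key 1440 certAr (by decide +kernel) (by decide +kernel)⟩
    · exact ⟨fun _ => hS _ (by decide +kernel), fun e => absurd e (by decide)⟩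
    · exact ⟨fun e => absurd e (by decide), fun _ e => hb.2 e.symm⟩
    · exact ⟨fun _ => Commute.refl b, fun e => absurd e (by decide)⟩
  have h3 : ∀ x < 11, ∀ y < 11, (TT.lab22 x y = 2 → Commute (let22 ρ a b x) (let22 ρ a b y)) ∧
      (TT.lab22 x y = 3 → ¬ Commute (let22 ρ a b x) (let22 ρ a b y)) := fun x hx y hy => by
    unfold TT.lab22
    by_cases c1 : x < 9 ∧ y < 9
    · rw [if_pos c1, let22, let22, if_pos c1.1, if_pos c1.2,
        hρ.commute_code (iso_cd22 x c1.1) (iso_cd22 y c1.2)]
      split_ifs with c2 <;> simp [c2]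
    rw [if_neg c1]
    split_ifs with c2 c3
    · exact c2 ▸ h2 y hy
    · exact c3 ▸ (h2 x hx).imp (fun k e => (k e).symm) fun k e e' => k e e'.symm
    · refine ⟨fun _ => ?_, fun e => absurd e (by decide)⟩
      by_cases c4 : x = 9
      · exact c4 ▸ h1 y (by omega)
      · exact (show y = 9 by omega) ▸ (h1 x (by omega)).symm
  refine ⟨h.tt.set, fun x hx => ?_, fun x hx y hy => (h3 x hx y hy).1, fun x hx y hy => (h3 x hx y hy).2⟩
  by_cases c1 : x < 9
  · exact (m x c1).1
  · rw [let22, if_neg c1]; split_ifs; exacts [ha, hb.1]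

/-- A conjugate of a letter, as a word. -/
noncomputable def cw (e : List ℕ × ℕ) : List ℕ := conjW id e.1 [e.2]

theorem UFr.eval_cw (h : UFr ρ X) (hs : ∀ x ∈ X, x * x = 1) {e : List ℕ × ℕ}
    (he : lettersLt 9 (e.2 :: e.1) = true) :
    evalW (let22 ρ a b) (cw e) = ρ (dec (traceP T22 e.1 (cd22 e.2))) ∧
      iso (traceP T22 e.1 (cd22 e.2)) = true := by
  rw [lettersLt_iff, List.forall_mem_cons] at he
  have hR : PSys.Real ⟨iso, fun x => blt x 9, T22, cd22, [], TT.nrm⟩ (fun u => ρ (dec u)) :=
    ⟨fun x i hx hi => (h.real hs).act _ i (iso_cd22 x ((blt_iff _ _).1 hx)) hi,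
      fun x hx => (h.real hs).sq _ (iso_cd22 x ((blt_iff _ _).1 hx)), fun _ hu => iso_nrm hu⟩
  obtain ⟨h1, h2⟩ := hR.word (w := e.1) (fun x hx => (blt_iff _ _).2 (he.2 x hx)) (iso_cd22 _ he.1)
  have k : ∀ x < 9, let22 ρ a b x = ρ (dec (cd22 x)) := fun x hx => if_pos hx
  refine ⟨?_, h1⟩
  rw [cw, evalW_conjW (inv := id) (m := 9) (fun x hx => by
      rw [id, k x hx]; exact hs _ (h.mem _ (iso_iff.1 (iso_cd22 x hx)).2))
    ((lettersLt_iff _ _).2 he.2), evalW_cons, evalW_nil, mul_one, k _ he.1,
    evalW_congr fun x hx => k x (he.2 x hx)]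
  exact h2

/-- Pairs of equal conjugates. -/
def eqs22 : List ((List ℕ × ℕ) × (List ℕ × ℕ)) :=
  [(([], 8), ([1, 2, 3, 7, 4, 3, 2, 1], 0)), (([7, 6, 5, 1], 0), ([8, 1, 5, 6, 8, 2], 1)), (([7, 6, 5, 2, 1], 0), ([8, 6, 1, 8, 6, 5, 2], 1)), (([3, 7, 6, 5, 1], 0), ([8, 1, 5, 6, 8, 3, 2], 1))]

/-- The further relators. -/
noncomputable def W22 : List (List ℕ) :=
  (9 :: appL (cw ([], 0)) (appL (cw ([], 5)) (appL (cw ([6, 8, 7, 6, 1, 8, 2, 1], 0))
    (appL (cw ([1, 8, 5, 1], 0)) (cw ([], 8)))))) :: eqs22.map fun p => appL (cw p.1) (cw p.2)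

theorem Fis.W22 [Finite G] (hF : Fis D) (hZ : Subgroup.center G = ⊥) (h : LocU D) (ha : a ∈ D)
    (hρ : UFr ρ (Dx D a)) : ∀ w ∈ W22, evalW (let22 ρ a b) w = 1 := by
  have hs : ∀ x ∈ Dx D a, x * x = 1 := fun x hx => hF.set.mul_self hx.1
  refine List.forall_mem_cons.2 ⟨?_, List.forall_mem_map.2 fun p hp => ?_⟩
  · have hl : lineOK 6 1286 = true := by decide +kernel
    have := hF.hexad hZ h ha hρ hl
    simp only [five] at this
    rw [← hρ.nrm (iso_ln hl (show 0 < 4 by decide)), ← hρ.nrm (iso_ln hl (show 1 < 4 by decide)),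
      ← hρ.nrm (iso_ln hl (show 2 < 4 by decide)), ← hρ.nrm (iso_ln hl (show 3 < 4 by decide))] at this
    simp only [evalW_cons _ 9, evalW_appL]
    iterate 5 rw [(hρ.eval_cw hs (by decide +kernel)).1]
    convert this using 5 <;> rfl
  · have k : allL eqs22 (fun p => band (lettersLt 9 (p.1.2 :: p.1.1)) (band (lettersLt 9 (p.2.2 :: p.2.1))
        (Nat.beq (traceP T22 p.1.1 (cd22 p.1.2)) (traceP T22 p.2.1 (cd22 p.2.2))))) = true := by
      decide +kernel
    have k1 := (allL_iff _ _).1 k p hp
    rw [band_iff, band_iff, nbeq_iff] at k1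
    rw [evalW_appL, (hρ.eval_cw hs k1.1).1, (hρ.eval_cw hs k1.2.1).1, k1.2.2]
    exact hs _ (hρ.mem _ (iso_iff.1 (hρ.eval_cw (a := a) (b := b) hs k1.2.1).2).2)

theorem tree_mem {g : ℕ → G} {K : Subgroup G} {L : List ℕ} (h : ∀ x ∈ L, g x ∈ K) {t : LT}
    (ht : t.all (fun w => allL w (memL L)) = true) (i : ℕ) : evalW g (t.get i) ∈ K :=
  evalW_mem fun x hx => h x (memL_iff.1 ((allL_iff _ _).1 (LT.all_get ht i) x hx))

/-- The letters `d c h e b i f g a` in the numbering `c d e f g h i r s a b`. -/
def pi22 : ℕ → ℕ := getP 4 15 (nat_lit 0x9436a2501)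

/-- Paths to the letter `a`. -/
def path22 (x : ℕ) : List ℕ :=
  pi22 x :: ([[0, 10, 9], [10, 9], [1, 0, 10, 9], [1, 0, 10, 9], [9], [5, 1, 0, 10, 9], [2, 1, 0, 10, 9], [3, 2, 1, 0, 10, 9], []] : List (List ℕ)).getD x []

theorem Fis.iso22 [Finite G] (hF : Fis D) (hZ : Subgroup.center G = ⊥) (h : LocU D) :
    ∃ e : G ≃* Cfsg.Spor.Fi22, e '' D = conjugatesOf (MFi22.g 8) := by
  obtain ⟨a, ha⟩ := hF.cls.nonempty
  obtain ⟨b0, hb0⟩ := hF.exists_mem_Ax ha
  obtain ⟨x, hx, hx'⟩ := hF.exists_mem_Dx_commute ha hb0
  obtain ⟨ρ0, hρ0⟩ := h.loc a ha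
  obtain ⟨k, hk, b, hb, hS0⟩ := h.thmA (P := fun b => b ∈ Ax D a) ha hρ0 (fun _ h => h)
    (fun x hx b hb => cj_mem_Ax_of_commute hF.cj_mem hx.2.2 hb) hx ⟨b0, hb0, hx'.symm⟩
  obtain ⟨ρ, hρ, hS⟩ := hρ0.normalize hk hS0
  have hL := h.lab22 ha hb hρ hS
  have hW := hF.W22 (b := b) hZ h ha hρ
  have hπ : ∀ x < 9, pi22 x < 11 := by decide +kernel
  set g := let22 ρ a b with hg
  set K := genLt (fun x => g (pi22 x)) 9 with hK
  have k1 : ∀ x ∈ [1, 0, 5, 2, 10, 6, 3, 4, 9], g x ∈ K := by
    simp only [List.forall_mem_cons]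
    exact ⟨mem_genLt _ (x := 0) (by decide), mem_genLt _ (x := 1) (by decide),
      mem_genLt _ (x := 2) (by decide), mem_genLt _ (x := 3) (by decide),
      mem_genLt _ (x := 4) (by decide), mem_genLt _ (x := 5) (by decide),
      mem_genLt _ (x := 6) (by decide), mem_genLt _ (x := 7) (by decide),
      mem_genLt _ (x := 8) (by decide), by simp⟩
  have k2 : ∀ x < 7, g x ∈ K := fun x hx => k1 x (by revert x; decide)
  have k3 : g 7 ∈ K := by
    simpa using m22k_mem0 (hL.hinv (by decide +kernel)) (hL.rels hW (by decide +kernel)) k2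
      (tree_mem k1 (by decide +kernel))
  have k4 : ∀ x < 8, ρ (dec (cd22 x)) ∈ K := fun x hx => by
    rw [show ρ (dec (cd22 x)) = g x from (if_pos (by omega)).symm]
    rcases Nat.lt_succ_iff_lt_or_eq.1 hx with hx | rfl
    exacts [k2 x hx, k3]
  have k5 : K = ⊤ := hF.eq_top_of_perp ha (fun y hy => by
    by_cases e : y = a
    · exact e ▸ k1 9 (by decide)
    obtain ⟨v, hv, rfl⟩ := hρ.surj y ⟨hy.1, e, hy.2⟩
    exact cover_ind covOK22 (P := fun v => ρ v ∈ K) k4 (fun x hx v hv h1 =>
      hρ.cj_eq _ _ (iso_iff.1 (iso_cd22 x (by omega))).2 hv ▸ cj_mem_of_mem (k4 x hx) h1)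
      (fun c hc v hv h1 => (hρ.smul hv hc).symm ▸ h1) hv) hb (k1 10 (by decide))
  have k6 : ∀ w, m22.closes w = true → evalW g w ∈ Subgroup.centralizer {g 9} := fun w hw =>
    TC.mem (T := m22) (hL.hinv (by decide +kernel)) (hL.rels hW (by decide +kernel))
      (fun x (hx : x < 10) => Subgroup.mem_centralizer_singleton_iff.2
        (hL.two x (by omega) 9 (by decide) (by revert x; decide)).eq)
      (leaf_nil_mem _ _) m22_c1 m22_c2 m22_c3 m22_c4 hw
  have k7 : ∀ w ∈ Cfsg.Spor.Fi22.extra.map (freeW MFi22.L), evalW (fun x => g (pi22 x)) w = 1 := by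
    intro w hw
    have c : allL (Cfsg.Spor.Fi22.extra.map (freeW MFi22.L)) (fun w => allLt 9 fun x =>
        band (pathOK 11 lab22 9 (path22 x))
          (m22.closes (conjW id (invW id (pathW (path22 x))) (w.map pi22)))) = true := by
      decide +kernel
    rw [← Subgroup.mem_bot, ← hZ, Subgroup.mem_center_iff]
    intro y
    refine (commute_of_mem_closure ?_ (show y ∈ K from k5 ▸ Subgroup.mem_top y)).symm.eq
    rintro _ ⟨x, hx, rfl⟩
    obtain ⟨c1, c2⟩ := (band_iff _ _).1 ((allLt_iff _ _).1 ((allL_iff _ _).1 c w hw) x hx)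
    exact evalW_map g pi22 w ▸ hL.commute_of_path c1 (k6 _ c2)
  obtain ⟨φ, hφ⟩ := (hL.comp hπ).exists_hom (extra := Cfsg.Spor.Fi22.extra) MFi22.hL k7 (by decide +kernel)
  have k8 : φ (MFi22.g 8) = a := hφ 8 (by decide)
  refine exists_equiv_of_hom φ (injective_of_simple φ (k8 ▸ hF.set.ne_one ha)) ?_ hF.cls (k8 ▸ ha)
  rw [eq_top_iff, ← k5]
  exact genLt_le fun x hx => ⟨_, hφ x hx⟩

end Cfsg.Agent.Spor.TT

namespace Cfsg.Agent.Spor.Fi

open Cfsg.Agent.Spor.TT

/-- Uniqueness of type M(22): a finite primitive 3-transposition group of type M(22) is the presented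
Fischer group, with `D` going to the class of the generator `a`. -/
theorem typeM22_iso {G : Type*} [Group G] [Finite G] {D : Set G}
    (hD : Cfsg.IsThreeTranspositionGroup D) (hprim : Cfsg.IsPrimitiveUnderConj D)
    (h : Cfsg.IsOfTypeM22 G D) :
    ∃ e : G ≃* Cfsg.Spor.Fi22,
      e '' D = conjugatesOf (PresentedGroup.of Cfsg.Spor.Fi22.Gen.a : Cfsg.Spor.Fi22) :=
  (typeM22_locU hD hprim h).1.iso22 h.1 (typeM22_locU hD hprim h).2

end Cfsg.Agent.Spor.Fi
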