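import Mathlib
import Cfsg.Agent.Spor.MTOdd
import Cfsg.Agent.Spor.LC.Tbl
import Cfsg.Agent.Spor.Comp.Iso2

/-!
# Classes of the Leech lattice modulo two as bit strings

The key `kv x` of a vector lists the parities of its inner products with 37 generators of the lattice;
it determines the class of `x` modulo `2Λ` and is computed from the code of `x` by `key`.
-/

set_option autoImplicit false
set_option maxRecDepth 100000

namespace Cfsg.Agent.Spor.MT

open Finset Cfsg.Agent.Spor.Leech Cfsg.Agent.Spor.LC
open Cfsg.Agent.Spor.Golay (ptIdx ptOf maskSet gbMask ptIdx_ptOf ptIdx_lt ptOf_ptIdx)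
open scoped Pointwise

/-- The exclusive or of the `f i` with `i < r` and `p i`. -/
noncomputable def xf (p : ℕ → Bool) (f : ℕ → ℕ) (r : ℕ) : ℕ :=
  Nat.rec 0 (fun i ih => Bool.rec ih (Nat.xor ih (f i)) (p i)) r

theorem xf_succ (p : ℕ → Bool) (f : ℕ → ℕ) (r : ℕ) :
    xf p f (r + 1) = xf p f r ^^^ (if p r = true then f r else 0) := by
  have : xf p f (r + 1) = Bool.rec (xf p f r) (Nat.xor (xf p f r) (f r)) (p r) := rfl
  rw [this]
  cases p r <;> simp

theorem xf_congr {p q : ℕ → Bool} {f g : ℕ → ℕ} {r : ℕ} (h1 : ∀ i < r, p i = q i)
    (h2 : ∀ i < r, f i = g i) : xf p f r = xf q g r := by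
  induction r with
  | zero => rfl
  | succ r ih =>
    rw [xf_succ, xf_succ, ih (fun i hi => h1 i (by omega)) (fun i hi => h2 i (by omega)),
      h1 r (by omega), h2 r (by omega)]

theorem xf_xor (p q : ℕ → Bool) (f : ℕ → ℕ) (r : ℕ) :
    xf (fun i => p i ^^ q i) f r = xf p f r ^^^ xf q f r := by
  induction r with
  | zero => exact (Nat.xor_self 0).symm
  | succ r ih =>
    rw [xf_succ, xf_succ, xf_succ, ih]
    refine Nat.eq_of_testBit_eq fun j => ?_
    cases p r <;> cases q r <;> simp [Bool.xor_comm, Bool.xor_left_comm]

theorem xf_lt {p : ℕ → Bool} {f : ℕ → ℕ} {r n : ℕ} (h : ∀ i < r, f i < 2 ^ n) : xf p f r < 2 ^ n := by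
  induction r with
  | zero => exact Nat.two_pow_pos n
  | succ r ih =>
    rw [xf_succ]
    refine Nat.xor_lt_two_pow (ih fun i hi => h i (by omega)) ?_
    split_ifs
    exacts [h r (by omega), Nat.two_pow_pos n]

theorem testBit_xf_pow (p : ℕ → Bool) (r j : ℕ) :
    (xf p (Nat.shiftLeft 1) r).testBit j = (decide (j < r) && p j) := by
  induction r with
  | zero => exact (Nat.zero_testBit j).trans (by simp)
  | succ r ih =>
    rw [xf_succ, Nat.testBit_xor, ih, Nat.shiftLeft_eq', Nat.one_shiftLeft]
    by_cases h : j = r
    · subst h; cases p j <;> simp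
    · have : decide (j < r + 1) = decide (j < r) := by simp; omega
      rw [this]
      split_ifs <;> simp [Nat.testBit_two_pow_of_ne (Ne.symm h)]

/-- The exclusive or of the `f i` selected by the mask `m`. -/
noncomputable def xs (f : ℕ → ℕ) (r m : ℕ) : ℕ := xf (bit m) f r

theorem xs_xor (f : ℕ → ℕ) (r a b : ℕ) : xs f r (a ^^^ b) = xs f r a ^^^ xs f r b := by
  rw [xs, xs, xs, ← xf_xor]
  exact xf_congr (fun i _ => by rw [bit_eq, bit_eq, bit_eq, Nat.testBit_xor]) fun _ _ => rfl

theorem xs_zero (f : ℕ → ℕ) (r : ℕ) : xs f r 0 = 0 := by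
  have := xs_xor f r 0 0
  rwa [Nat.xor_self, Nat.xor_self] at this

theorem xs_xf (f : ℕ → ℕ) (r : ℕ) (p : ℕ → Bool) (g : ℕ → ℕ) (n : ℕ) :
    xs f r (xf p g n) = xf p (fun i => xs f r (g i)) n := by
  induction n with
  | zero => exact xs_zero f r
  | succ n ih =>
    rw [xf_succ, xf_succ, xs_xor, ih]
    split_ifs
    exacts [rfl, by rw [xs_zero]]

theorem xs_two_pow (f : ℕ → ℕ) {r i : ℕ} (h : i < r) : xs f r (2 ^ i) = f i := by
  have key : ∀ n, xf (bit (2 ^ i)) f n = if i < n then f i else 0 := by
    intro n
    induction n with
    | zero => rfl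
    | succ n ih =>
      rw [xf_succ, ih, bit_eq, Nat.testBit_two_pow]
      by_cases a : i = n
      · subst a; simp
      · have : i < n + 1 ↔ i < n := by omega
        simp [a, this]
  rw [xs, key, if_pos h]

/-! ### Keys -/

theorem memTest_genN : ∀ l < 37, memTest (genN l) = true := by decide +kernel

/-- The generators of the lattice. -/
def gv (l : ℕ) : Λ := if h : l < 37 then vecN (genN l) (memTest_genN l h) else 0

theorem gv_apply {l : ℕ} (h : l < 37) (p : GolayPt) : (gv l : Vec) p = genN l (ptIdx p) := by
  rw [gv, dif_pos h]; rfl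

theorem gv_lt {i : GolayPt} (hi : i ≠ none) : gv (ptIdx i) = v44 i none 1 (-1) := by
  have h1 := ptIdx_lt i
  have h2 : ptIdx i ≠ 23 := fun e => hi (ptIdx_eq_23.1 e)
  ext j
  rw [gv_apply (by omega), genN, if_pos (by omega), v44_apply]
  simp only [ptIdx_eq_iff, ptIdx_eq_23]
  by_cases a : j = i
  · subst a; simp [hi]
  · simp [a]

theorem gv_23 : gv 23 = e8 none := by
  ext j
  rw [gv_apply (by omega), genN, if_neg (by omega), if_pos rfl, e8_apply]; simp only [ptIdx_eq_23]

theorem gv_add {i : ℕ} (hi : i < 12) : gv (i + 24) = two _ (isCode_gb hi) := by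
  ext j
  rw [gv_apply (by omega), genN, if_neg (by omega), if_neg (by omega), if_pos (by omega), two_apply]
  simp

theorem gv_36 : gv 36 = odd1 none (-3) rfl := by
  ext j
  rw [gv_apply (by omega), genN, if_neg (by omega), if_neg (by omega), if_neg (by omega), odd1_apply]
  simp only [ptIdx_eq_23]

theorem eq_top_of_gv {A : AddSubgroup Λ} (h : ∀ l < 37, gv l ∈ A) : A = ⊤ :=
  eq_top_of_gens (fun i hi => gv_lt hi ▸ h _ (by have := ptIdx_lt i; omega)) (gv_23 ▸ h _ (by omega))
    (fun i hi => gv_add hi ▸ h _ (by omega)) (gv_36 ▸ h _ (by omega))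

theorem cg_zero_of_dvd {x : Λ} (h : ∀ l < 37, (16 : ℤ) ∣ ip x (gv l)) : Cg x 0 := by
  let A : AddSubgroup Λ :=
    { carrier := {y | (16 : ℤ) ∣ ip x y}
      zero_mem' := by change (16 : ℤ) ∣ ip x 0; rw [ip_zero_right]; exact dvd_zero _
      add_mem' := fun {a b} ha hb => by
        change (16 : ℤ) ∣ ip x (a + b); rw [ip_add_right]; exact dvd_add ha hb
      neg_mem' := fun {a} ha => by
        change (16 : ℤ) ∣ ip x (-a); rw [ip_neg_right]; exact (dvd_neg).2 ha }
  have h1 : ∀ y, (16 : ℤ) ∣ ip x y := fun y =>
    (eq_top_of_gv (A := A) h ▸ AddSubgroup.mem_top y : y ∈ A)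
  have h2 : ∀ i, (x : Vec) i = 2 * ((x : Vec) i / 2) := fun i => by
    have := h1 (e8 i); rw [ip_e8] at this; omega
  refine ⟨⟨fun i => (x : Vec) i / 2, mem_leech_of_dot fun v => ?_⟩, ?_⟩
  · have h3 := h1 v
    have h4 : ip x v = 2 * dotInt (fun i => (x : Vec) i / 2) (v : Vec) := by
      rw [ip_def, dotInt_def, dotInt_def, mul_sum]
      exact sum_congr rfl fun i _ => by rw [← mul_assoc, ← h2]
    omega
  · ext i
    rw [sub_zero, two_nsmul, AddSubgroup.coe_add, Pi.add_apply]
    have := h2 i
    dsimp only; omega

/-- The key of a vector. -/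
noncomputable def kv (x : Λ) : ℕ :=
  xf (fun l => decide (¬ (16 : ℤ) ∣ ip x (gv l))) (Nat.shiftLeft 1) 37

theorem kv_add (x y : Λ) : kv (x + y) = kv x ^^^ kv y := by
  rw [kv, kv, kv, ← xf_xor]
  refine xf_congr (fun l _ => ?_) fun _ _ => rfl
  have h1 := eight_dvd_ip x (gv l)
  have h2 := eight_dvd_ip y (gv l)
  rw [ip_add_left]
  by_cases a : (16 : ℤ) ∣ ip x (gv l) <;> by_cases b : (16 : ℤ) ∣ ip y (gv l) <;>
    simp only [a, b, not_true, not_false_iff, decide_true, decide_false, Bool.xor_self,
      Bool.xor_true, Bool.xor_false, Bool.not_false, decide_eq_false_iff_not, decide_eq_true_eq,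
      not_not] <;> omega

theorem kv_eq_iff {x y : Λ} : kv x = kv y ↔ Cg x y := by
  constructor
  · intro h
    rw [cg_iff_sub]
    refine cg_zero_of_dvd fun l hl => ?_
    have h1 := congrArg (·.testBit l) h
    simp only [kv, testBit_xf_pow, hl, decide_true, Bool.true_and, decide_eq_decide] at h1
    have h2 := eight_dvd_ip x (gv l)
    have h3 := eight_dvd_ip y (gv l)
    rw [ip_sub_left]; omega
  · intro h
    refine xf_congr (fun l _ => ?_) fun _ _ => rfl
    have := h.dvd_ip (gv l)
    rw [decide_eq_decide]; omega

theorem kv_zero : kv 0 = 0 := by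
  have := kv_add 0 0
  rwa [add_zero, Nat.xor_self] at this

theorem kv_neg (x : Λ) : kv (-x) = kv x := kv_eq_iff.2 (Cg.neg_self x)

/-- The first 24 generators as a packed matrix. -/
def rA : ℕ := 
  0x100000000000000000000000000000000000000000000000000000000000000000000000000000000000000000000000800000000000000000000000000000000000000000000000000000000000000000000000000000000000000000003fffc0000000000000000000000000000000000000000000000000000000000000000000000000000000000000003fffffffc000000000000000000000000000000000000000000000000000000000000000000000000000000000003fffffffffffc00000000000000000000000000000000000000000000000000000000000000000000000000000003fffffffffffffffc0000000000000000000000000000000000000000000000000000000000000000000000000003fffffffffffffffffffc000000000000000000000000000000000000000000000000000000000000000000000003fffffffffffffffffffffffc00000000000000000000000000000000000000000000000000000000000000000003fffffffffffffffffffffffffffc0000000000000000000000000000000000000000000000000000000000000003fffffffffffffffffffffffffffffffc0000000000000000000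00000000000000000000000000000000000000003fffffffffffffffffffffffffffffffffffc00000000000000000000000000000000000000000000000000000003fffffffffffffffffffffffffffffffffffffffc0000000000000000000000000000000000000000000000000003fffffffffffffffffffffffffffffffffffffffffffc000000000000000000000000000000000000000000000003fffffffffffffffffffffffffffffffffffffffffffffffc00000000000000000000000000000000000000000003fffffffffffffffffffffffffffffffffffffffffffffffffffc0000000000000000000000000000000000000003fffffffffffffffffffffffffffffffffffffffffffffffffffffffc000000000000000000000000000000000003fffffffffffffffffffffffffffffffffffffffffffffffffffffffffffc00000000000000000000000000000003fffffffffffffffffffffffffffffffffffffffffffffffffffffffffffffffc0000000000000000000000000003fffffffffffffffffffffffffffffffffffffffffffffffffffffffffffffffffffc000000000000000000000003fffffffffffffffffffffffffffffffffffffffffffffffffffffffffffffffffffffffc00000000000000000003fffffffffffffffffffffffffffffffffffffffffffffffffffffffffffffffffffffffffffc0000000000000003fffffffffffffffffffffffffffffffffffffffffffffffffffffffffffffffffffffffffffffffc000000000003fffffffffffffffffffffffffffffffffffffffffffffffffffffffffffffffffffffffffffffffffffc00000003fffffffffffffffffffffffffffffffffffffffffffffffffffffffffffffffffffffffffffffffffffffffc0003fffffffffffffffffffffffffffffffffffffffffffffffffffffffffffffffffffffffffffffffffffffffffffc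

/-- The last 13 generators as a packed matrix. -/
def rB : ℕ := 
  0x100000000000000000000000000000000000000000000000000000000000000000000000000000000000000000000000000000000000000000000000000000000000000000000000000000000000000000000000000000000000000000000000000000000000000000000000000000000000000000000000000000000000000000000000000000000000000000000000000000000000000000000000000000000000000000000000000000000000000000000000000000000000000000000000000000000000000000000000000000000000000000000000000000000000000000000000000000000000000000000000000000000000000000000000000000000000000000000000000000000000000000000000000000000000000000000000000000000000000000000000000000000000000000000000000000000000000000000000000000000000000000000000000000000000000000000000000000000000000000000000000000000000000000000000000000000000000000000000000000000000000000000000000000000000000000000000000000000000000000000000000000000000000000000000000000000000000000000000000000000000000000000000000000000000000000000000000000000000000000000000000000000000000000000000000000000000000000000000000000000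000000000000000000000000000000000000000000010001000100010001000100010001000100010001000100010001000100010001000100010001000100010000fffd000000020000000200000002000200020000000000000002000200000000000000000000000000000000000000000002000200000002000000020002000200000000000000020002000000000000000000000000000000000000000000000002000200020002000000020000000000000000000000000000000000020000000000020000000000000000000000020002000200020000000000000002000000000000000200000002000000020000000000000000000000000000000200000002000200020000000000000000000000020000000000000000000200020002000000000000000000000002000000000002000200020000000000000002000000000000000000020000000200000000000000020000000000020000000000000002000200020002000000000000000000000002000000000002000200000000000000000000000200000000000000000002000200020002000200000002000000000000000000000000000000000002000000000002000000000000000000000002000200020000000000020000000200000000000200000000000200000000000000000002000000000000000000000002000200020000000000000000000200000000000000000002000000000002000200020000000000000000000000000002000200020000000000020002000000020002000000000000000000000000000200000000000000000000000000000002000200020000000200000000000200000002000000020000000000020000000000000000000000000000000000000002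

theorem matV_rAB : matV rA = true ∧ matV rB = true := by decide +kernel

theorem mat_rAB : (∀ i < 24, ∀ j < 24, mat rA i j = genN i j) ∧
    ∀ i < 13, ∀ j < 24, mat rB i j = genN (24 + i) j := by decide +kernel

/-- The key of the vector with code `n`. -/
noncomputable def key (n : ℕ) : ℕ :=
  force (app1 rA n) fun a => force (app1 rB n) fun b => xf (fun l =>
    bit (ifLt l 24 (dg a l) (dg b (Nat.sub l 24))) 3) (Nat.shiftLeft 1) 37

theorem key_cd {x : Λ} (hx : Bd (x : Vec)) : key (cd (x : Vec)) = kv x := by
  rw [key, force_eq, force_eq, kv]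
  refine xf_congr (fun l hl => ?_) fun _ _ => rfl
  have h0 := eight_dvd_ip x (gv l)
  have h1 : ∀ {R i : ℕ}, (∀ j < 24, mat R i j = genN l j) → rowDot R i x = ip x (gv l) := by
    intro R i h
    rw [rowDot, ip_comm, ip_def, dotInt_def]
    exact sum_congr rfl fun p _ => by rw [h _ (ptIdx_lt p), gv_apply hl]
  have h2 : ∀ d : ℕ, (d : ℤ) = 32768 + ip x (gv l) → bit d 3 = decide (¬ (16 : ℤ) ∣ ip x (gv l)) := by
    intro d hd
    rw [bit_eq, Nat.testBit_eq_decide_div_mod_eq, decide_eq_decide]; omega
  rw [ifLt_eq]
  split_ifs with h
  · exact h2 _ (by rw [dg_app1 matV_rAB.1 hx h, h1 (mat_rAB.1 l h)])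
  · refine h2 _ (by
      rw [dg_app1 matV_rAB.2 hx (by rw [Nat.sub_eq]; omega), h1 fun j hj => ?_]
      rw [Nat.sub_eq, mat_rAB.2 _ (by omega) j hj]; congr 1; omega)

/-- `n` is the code of a lattice vector of norm at most 64. -/
noncomputable def ok64 (n : ℕ) : Bool := band (okv n) (Nat.ble (ipc n n) 32832)

theorem ok64_spec {n : ℕ} (h : ok64 n = true) : nm (vec n) ≤ 64 ∧ cd (vec n : Vec) = n := by
  rw [ok64, band_iff, Nat.ble_eq] at h
  have := ipc_vec h.1 h.1
  rw [ip_self] at this
  exact ⟨by omega, (okv_spec h.1).2.2⟩

theorem key_vec {n : ℕ} (h : ok64 n = true) : key n = kv (vec n) := by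
  rw [← key_cd (bd_of_nm (ok64_spec h).1), (ok64_spec h).2]

theorem key_app {R n : ℕ} (hR : matOK R = true) (h : ok64 n = true) :
    key (app R n) = kv (el R • vec n) := by
  rw [← key_cd (bd_of_nm (by rw [nm_smul]; exact (ok64_spec h).1)), cd_el hR (ok64_spec h).1,
    (ok64_spec h).2]

/-- The codes of the generators. -/
noncomputable def gc (l : ℕ) : ℕ := pkR (fun j => (genN l j + 8).toNat) 24

theorem ok64_gc : ∀ l < 37, ok64 (gc l) = true := by decide +kernel

theorem vec_gc {l : ℕ} (h : l < 37) : vec (gc l) = gv l := by
  have hb : Bd (gv l : Vec) := fun p => by rw [gv_apply h]; exact (genL_spec l h).2 _ (ptIdx_lt p)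
  rw [← vec_cd hb, gc, pkR_eq]
  congr 1
  refine (cd_eq_pk fun i hi => ?_).symm
  have := (genL_spec l h).2 i hi
  rw [gv_apply h, ptIdx_ptOf hi]; omega

/-- The code of `8 e_j`. -/
def c8 (j : ℕ) : ℕ := Nat.add (Nat.mul 8 (ones 24)) (Nat.shiftLeft 8 (Nat.mul 16 j))

theorem cd_e8 (p : GolayPt) : cd (e8 p : Vec) = c8 (ptIdx p) := by
  rw [c8, Nat.add_eq, Nat.mul_eq, Nat.mul_eq, Nat.shiftLeft_eq', Nat.shiftLeft_eq, pow16, ← pk_const,
    ← pk_single (ptIdx_lt p), ← pk_add]
  refine cd_eq_pk fun i hi => ?_
  rw [e8_apply]
  by_cases h : i = ptIdx p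
  · subst h; simp
  · rw [if_neg h, if_neg fun e => h (by rw [← e, ptIdx_ptOf hi])]; simp

/-- Two words have the same value. -/
noncomputable def eqW (R : ℕ → ℕ) (v w : List ℕ) : Bool :=
  Spor.allLt 24 fun j => Nat.beq (appW R v (c8 j)) (appW R w (c8 j))

theorem eq_of_eqW {R : ℕ → ℕ} {m : ℕ} (hR : ∀ l < m, matOK (R l) = true) {v w : List ℕ}
    (h : band (lettersLt m v) (band (lettersLt m w) (eqW R v w)) = true) :
    evalW (fun l => el (R l)) v = evalW (fun l => el (R l)) w := by
  rw [band_iff, band_iff, lettersLt_iff, lettersLt_iff, eqW, Spor.allLt_iff] at h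
  refine co0_ext_e8 fun p => cd_inj_nm (by rw [nm_smul, nm_e8]) (by rw [nm_smul, nm_e8]) ?_
  rw [cd_evalW (fun l hl => hR l (h.1 l hl)) (nm_e8 p).le,
    cd_evalW (fun l hl => hR l (h.2.1 l hl)) (nm_e8 p).le, cd_e8]
  exact (nbeq_iff _ _).1 (h.2.2 _ (ptIdx_lt p))

/-! ### Combinations of basis vectors -/

/-- The sum of the vectors `b i` selected by the mask `m`. -/
def comb (b : ℕ → Λ) (r m : ℕ) : Λ := ∑ i ∈ range r, if m.testBit i then b i else 0

theorem kv_comb (b : ℕ → Λ) (r m : ℕ) : kv (comb b r m) = xs (fun i => kv (b i)) r m := by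
  induction r with
  | zero => exact kv_zero
  | succ r ih =>
    rw [comb, sum_range_succ, kv_add, xs, xf_succ, bit_eq]
    congr 1
    split_ifs
    exacts [rfl, kv_zero]

theorem smul_comb (g : Co0) (b : ℕ → Λ) (r m : ℕ) :
    g • comb b r m = comb (fun i => g • b i) r m := by
  rw [comb, smul_sum]
  exact sum_congr rfl fun i _ => by split_ifs <;> simp

theorem cg_comb_xor (b : ℕ → Λ) (r m m' : ℕ) :
    Cg (comb b r (m ^^^ m')) (comb b r m + comb b r m') := by
  rw [← kv_eq_iff, kv_add, kv_comb, kv_comb, kv_comb, xs_xor]

theorem cg_comb_two_pow (b : ℕ → Λ) {r i : ℕ} (h : i < r) : Cg (comb b r (2 ^ i)) (b i) := by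
  rw [← kv_eq_iff, kv_comb, xs_two_pow _ h]

theorem cg_smul_comb {g : Co0} {b : ℕ → Λ} {r : ℕ} {w : ℕ → ℕ}
    (h : ∀ i < r, Cg (g • b i) (comb b r (w i))) (m : ℕ) :
    Cg (g • comb b r m) (comb b r (xs w r m)) := by
  rw [← kv_eq_iff, smul_comb, kv_comb, kv_comb]
  refine Eq.trans ?_ (xs_xf _ r (bit m) w r).symm
  exact xf_congr (fun _ _ => rfl) fun i hi => by rw [kv_eq_iff.2 (h i hi), kv_comb]

theorem cg_smul_comb_self {g : Co0} {b : ℕ → Λ} {r : ℕ} (h : ∀ i < r, Cg (g • b i) (b i)) (m : ℕ) :
    Cg (g • comb b r m) (comb b r m) := by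
  rw [← kv_eq_iff, smul_comb, kv_comb, kv_comb]
  exact xf_congr (fun _ _ => rfl) fun i hi => kv_eq_iff.2 (h i hi)

attribute [irreducible] xf xs gv kv rA rB key ok64 gc c8 eqW comb

end Cfsg.Agent.Spor.MT
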