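import Mathlib
import Cfsg.Agent.Spor.MTKey
import Cfsg.Agent.Spor.MTM24

/-!
# Certificates for the centraliser in `Co0` of a permutation of odd order

The classes modulo `2Λ` fixed by `β` are the combinations of a basis; elements commuting with `β` act
on them linearly. The orbit of the standard frame bounds the order of the centraliser.
-/

set_option autoImplicit false
set_option maxRecDepth 100000

namespace Cfsg.Agent.Spor.MT

open Subgroup Cfsg.Agent.Spor.Leech Cfsg.Agent.Spor.LC MulAction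
open Cfsg.Agent.Spor.Golay (ptIdx ptIdx_lt)
open scoped Pointwise

/-- The class of a combination of basis vectors. -/
def ec (b : ℕ → Λ) (r m : ℕ) : Set Λ := cls (comb b r m)

/-- The classes fixed by `β` have the basis `b i`, `i < r`. -/
structure FxD (β : Co0) (r N : ℕ) (b : ℕ → Λ) : Prop where
  pow : N = 2 ^ r
  inj : Set.InjOn (ec b r) (Set.Iio N)
  fix : ∀ i < r, Cg (β • b i) (b i)
  span : ∀ v, Cg (β • v) v → ∃ m < N, Cg v (comb b r m)

theorem FxD.eq {β : Co0} {r N : ℕ} {b : ℕ → Λ} (h : FxD β r N b) : Fx β = ec b r '' Set.Iio N := by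
  ext c
  constructor
  · rintro ⟨v, hv, rfl⟩
    obtain ⟨m, hm, e⟩ := h.span v hv
    exact ⟨m, hm, (cls_eq_iff.2 e).symm⟩
  · rintro ⟨m, -, rfl⟩
    exact ⟨_, cg_smul_comb_self h.fix m, rfl⟩

theorem FxD.card {β : Co0} {r N : ℕ} {b : ℕ → Λ} (h : FxD β r N b) : (Fx β).ncard = 2 ^ r := by
  rw [h.eq, h.inj.ncard_image, ← h.pow]; simp

/-- The key of the sum of the first `p` images of a vector. -/
noncomputable def nk (R p : ℕ) : ℕ → ℕ :=
  Nat.rec (fun _ => 0) (fun _ ih n => Nat.xor (ih (app R n)) (key n)) p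

theorem nk_cd {R : ℕ} (hR : matOK R = true) (p : ℕ) : ∀ {x : Λ}, nm x ≤ 64 →
    nk R p (cd (x : Vec)) = kv (∑ i ∈ Finset.range p, el R ^ i • x) := by
  induction p with
  | zero => intro x _; exact kv_zero.symm
  | succ p ih =>
    intro x hx
    have e : nk R (p + 1) (cd (x : Vec)) =
      nk R p (app R (cd (x : Vec))) ^^^ key (cd (x : Vec)) := rfl
    rw [e, ← cd_el hR hx, ih (by rwa [nm_smul]), key_cd (bd_of_nm hx), Finset.sum_range_succ', kv_add,
      pow_zero, one_smul]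
    simp only [pow_succ, mul_smul]

theorem cg_sum_of_fix {β : Co0} {v : Λ} (h : Cg (β • v) v) {p : ℕ} (hp : Odd p) :
    Cg (∑ i ∈ Finset.range p, β ^ i • v) v := by
  have h1 : ∀ i : ℕ, Cg (β ^ i • v) v := fun i => by
    induction i with
    | zero => rw [pow_zero, one_smul]; exact Cg.refl v
    | succ i ih => rw [pow_succ', mul_smul]; exact (ih.smul β).trans h
  have h2 : ∀ n : ℕ, Cg (∑ i ∈ Finset.range n, β ^ i • v) (n • v) := fun n => by
    induction n with
    | zero => rw [Finset.sum_range_zero, zero_nsmul]; exact Cg.refl 0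
    | succ n ih => rw [Finset.sum_range_succ, succ_nsmul]; exact ih.add (h1 n)
  obtain ⟨k, rfl⟩ := hp
  exact (h2 _).trans ⟨k • v, by rw [succ_nsmul, add_sub_cancel_right, mul_nsmul']⟩

/-- The codes `c i` have the keys `kb i`. -/
noncomputable def keysOK (r : ℕ) (c kb : ℕ → ℕ) : Bool :=
  Spor.allLt r fun i => band (ok64 (c i)) (Nat.beq (key (c i)) (kb i))

theorem xs_keys {r : ℕ} {c kb : ℕ → ℕ} (h : keysOK r c kb = true) (m : ℕ) :
    xs kb r m = kv (comb (fun i => vec (c i)) r m) := by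
  rw [kv_comb]
  unfold xs
  refine xf_congr (fun _ _ => rfl) fun i hi => ?_
  have := (Spor.allLt_iff _ _).1 h i hi
  rw [band_iff, nbeq_iff] at this
  rw [← this.2, key_vec this.1]

theorem ok64_keys {r : ℕ} {c kb : ℕ → ℕ} (h : keysOK r c kb = true) {i : ℕ} (hi : i < r) :
    ok64 (c i) = true ∧ kb i = kv (vec (c i)) := by
  have := (Spor.allLt_iff _ _).1 h i hi
  rw [band_iff, nbeq_iff] at this
  exact ⟨this.1, by rw [← this.2, key_vec this.1]⟩

/-- The checks for a basis of the fixed classes. -/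
noncomputable def basOK (S p r N : ℕ) (c kb sp : ℕ → ℕ) : Bool :=
  band (Spor.allLt r fun i => Nat.beq (key (app S (c i))) (kb i))
    (band (allRange 0 N fun m => bor (Nat.beq m 0) (!Nat.beq (xs kb r m) 0))
      (Spor.allLt 37 fun l => force (sp l) fun m => band (blt m N) (Nat.beq (nk S p (gc l)) (xs kb r m))))

theorem fxD_of {S p r N : ℕ} {c kb sp : ℕ → ℕ} (hS : matOK S = true) (hp : Odd p) (hN : N = 2 ^ r)
    (hk : keysOK r c kb = true) (h : basOK S p r N c kb sp = true) :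
    FxD (el S) r N fun i => vec (c i) := by
  rw [basOK, band_iff, band_iff, Spor.allLt_iff, Spor.allLt_iff] at h
  obtain ⟨h1, h2, h3⟩ := h
  refine ⟨hN, fun m hm m' hm' e => ?_, fun i hi => ?_, fun v hv => ?_⟩
  · have a1 := kv_eq_iff.2 (cls_eq_iff.1 e)
    rw [← xs_keys hk, ← xs_keys hk] at a1
    have a2 := allRange_zero h2 (m ^^^ m') (hN ▸ Nat.xor_lt_two_pow (hN ▸ hm) (hN ▸ hm'))
    rw [xs_xor, a1, Nat.xor_self, bor_iff, nbeq_iff] at a2
    exact Nat.xor_eq_zero_iff.1 (a2.resolve_right (by simp))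
  · rw [← kv_eq_iff, ← key_app hS (ok64_keys hk hi).1, ← (ok64_keys hk hi).2]
    exact (nbeq_iff _ _).1 (h1 i hi)
  · let A : AddSubgroup Λ :=
      { carrier := {x | ∃ m < N, Cg (∑ i ∈ Finset.range p, el S ^ i • x)
          (comb (fun i => vec (c i)) r m)}
        zero_mem' := ⟨0, hN ▸ Nat.two_pow_pos r, by
          rw [← kv_eq_iff, ← xs_keys hk, xs_zero]; simpa using kv_zero⟩
        add_mem' := by
          rintro x y ⟨m, hm, e⟩ ⟨m', hm', e'⟩
          refine ⟨m ^^^ m', hN ▸ Nat.xor_lt_two_pow (hN ▸ hm) (hN ▸ hm'), ?_⟩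
          simp only [smul_add, Finset.sum_add_distrib]
          exact (e.add e').trans (cg_comb_xor _ _ _ _).symm
        neg_mem' := by
          rintro x ⟨m, hm, e⟩
          refine ⟨m, hm, ?_⟩
          simp only [smul_neg, Finset.sum_neg_distrib]
          exact (Cg.neg_self _).trans e }
    have hA : A = ⊤ := eq_top_of_gv fun l hl => by
      have a1 := h3 l hl
      rw [force_eq, band_iff, blt_iff, nbeq_iff, ← (ok64_spec (ok64_gc l hl)).2,
        nk_cd hS p (ok64_spec (ok64_gc l hl)).1, vec_gc hl, xs_keys hk] at a1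
      exact ⟨_, a1.1, kv_eq_iff.1 a1.2⟩
    obtain ⟨m, hm, e⟩ : v ∈ A := hA ▸ AddSubgroup.mem_top v
    exact ⟨m, hm, (cg_sum_of_fix hv hp).symm.trans e⟩

/-- The matrix `S` is that of the permutation with code `s`. -/
noncomputable def permOK (S s : ℕ) : Bool :=
  band (matOK S) (Spor.allLt 24 fun j => Nat.beq (app S (c8 j)) (c8 (MB.ap s j)))

theorem ix_eq (p : GolayPt) : MB.ix p = ptIdx p := by revert p; decide +kernel

theorem el_eq_perm {S s : ℕ} {σ : M24} (hs : MB.code σ.1 = s) (h : permOK S s = true) :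
    matOK S = true ∧ el S = perm σ := by
  rw [permOK, band_iff, Spor.allLt_iff] at h
  refine ⟨h.1, co0_ext_e8 fun p => ?_⟩
  rw [perm_e8]
  refine el_smul_eq h.1 (nm_e8 _).le (nm_e8 _).le ?_
  rw [cd_e8, cd_e8, (nbeq_iff _ _).1 (h.2 _ (ptIdx_lt p)), ← hs, ← ix_eq, MB.ap_code_ix, ix_eq]

/-- The matrix `R` is an automorphism commuting with `S` and acting on the basis by the rows `w`. -/
noncomputable def letOK (S r N : ℕ) (c kb : ℕ → ℕ) (R : ℕ) (w : ℕ → ℕ) : Bool :=
  band (matOK R) (band (Spor.allLt 24 fun j => Nat.beq (app S (app R (c8 j))) (app R (app S (c8 j))))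
    (Spor.allLt r fun i => force (w i) fun m => band (blt m N)
      (Nat.beq (key (app R (c i))) (xs kb r m))))

theorem tabs_of_letOK {S r N n : ℕ} {c kb R : ℕ → ℕ} {W : ℕ → ℕ → ℕ} (hS : matOK S = true)
    (hN : N = 2 ^ r) (hk : keysOK r c kb = true) (h : ∀ l < n, letOK S r N c kb (R l) (W l) = true) :
    (∀ l < n, matOK (R l) = true) ∧ (∀ l < n, el (R l) ∈ centralizer {el S}) ∧
      Tabs (ec (fun i => vec (c i)) r) N (fun l => xs (W l) r) (fun l => el (R l)) n := by
  simp only [letOK, band_iff, Spor.allLt_iff, force_eq, nbeq_iff, blt_iff] at h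
  refine ⟨fun l hl => (h l hl).1, fun l hl => mem_centralizer_singleton.2 (co0_ext_e8 fun p => ?_),
    fun l hl m _ => ⟨?_, ?_⟩⟩
  · refine cd_inj_nm (by rw [nm_smul, nm_e8]) (by rw [nm_smul, nm_e8]) ?_
    rw [mul_smul, mul_smul, cd_el hS (by rw [nm_smul, nm_e8]), cd_el (h l hl).1 (nm_e8 p).le,
      cd_el (h l hl).1 (by rw [nm_smul, nm_e8]), cd_el hS (nm_e8 p).le, cd_e8]
    exact (h l hl).2.1 _ (ptIdx_lt p)
  · unfold xs
    exact hN ▸ xf_lt fun i hi => hN ▸ ((h l hl).2.2 i hi).1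
  · rw [ec, ec, smul_cls, cls_eq_iff]
    refine cg_smul_comb (fun i hi => ?_) m
    rw [← kv_eq_iff, ← key_app (h l hl).1 (ok64_keys hk hi).1, ← xs_keys hk]
    exact ((h l hl).2.2 i hi).2

/-! ### The orbit of the standard frame -/

/-- The orbit of the class of the standard frame under the centraliser of `β`. -/
abbrev Orb (β : Co0) : Set (Set Λ) := orbit (centralizer ({β} : Set Co0)) (cls (e8 none))

theorem orb_sub {β : Co0} (hβ : β ∈ Mon) {r N : ℕ} {b : ℕ → Λ} (h : FxD β r N b) {T : ℕ → ℕ → ℕ}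
    {g : ℕ → Co0} {n : ℕ} (hT : Tabs (ec b r) N T g n) (hg : ∀ l < n, g l ∈ centralizer {β})
    {E : ℕ → ℕ} {root : ℕ → Bool} (hE : allRange 0 N (orbOK T n E root) = true)
    (hroot : ∀ m < N, root m = true → ec b r m ∉ Orb β) :
    Orb β ⊆ ec b r '' {m | m < N ∧ blt (E m) 256 = true} := by
  rintro _ ⟨k, rfl⟩
  obtain ⟨m, hm, e⟩ := h.span ((k : Co0) • e8 none) (by
    rw [← mul_smul, mem_centralizer_singleton.1 k.2, mul_smul]
    exact (cg_of_mem_Mon hβ none).smul _)
  have e1 : ec b r m = k • cls (e8 none) := by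
    rw [Subgroup.smul_def, smul_cls, ec, cls_eq_iff]; exact e.symm
  refine ⟨m, ⟨hm, (blt_iff _ _).2 ?_⟩, e1⟩
  by_contra hc
  obtain ⟨m₀, h1, h2, a, ha, h3⟩ := hT.orb_root hE hm (not_lt.1 hc)
  refine hroot m₀ h1 h2 ⟨(⟨a, genLt_le hg ha⟩ : centralizer ({β} : Set Co0))⁻¹ * k, ?_⟩
  dsimp only
  rw [mul_smul, ← e1, ← h3, inv_smul_eq_iff]; rfl

/-- The class with mask `m` is that of one of the codes in `L`. -/
noncomputable def inL (kb : ℕ → ℕ) (r : ℕ) (L : List ℕ) (m : ℕ) : Bool :=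
  !allL L fun w => !Nat.beq (key w) (xs kb r m)

theorem inL_spec {r : ℕ} {c kb : ℕ → ℕ} (hk : keysOK r c kb = true) {L : List ℕ} {m : ℕ}
    (h : inL kb r L m = true) (hL : ∀ w ∈ L, ok64 w = true) :
    ∃ w ∈ L, ec (fun i => vec (c i)) r m = cls (vec w) := by
  by_contra hc
  push Not at hc
  have : allL L (fun w => !Nat.beq (key w) (xs kb r m)) = true := (allL_iff _ _).2 fun w hw => by
    cases e : Nat.beq (key w) (xs kb r m) with
    | false => rfl
    | true =>
      rw [nbeq_iff, key_vec (hL w hw), xs_keys hk] at e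
      exact absurd (cls_eq_iff.2 (kv_eq_iff.1 e.symm)) (hc w hw)
  rw [inL, this] at h
  exact absurd h (by simp)

/-- `n` is the code of a lattice vector of norm less than 64. -/
noncomputable def okS (n : ℕ) : Bool := band (ok64 n) (!Nat.beq (ipc n n) 32832)

theorem okS_spec {n : ℕ} (h : okS n = true) : ok64 n = true ∧ nm (vec n) < 64 := by
  rw [okS, band_iff] at h
  obtain ⟨h1, h2⟩ := ok64_spec h.1
  have h3 := ipc_cd (bd_of_nm h1) (bd_of_nm h1)
  rw [h2, ip_self] at h3
  refine ⟨h.1, lt_of_le_of_ne h1 fun e => ?_⟩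
  have h4 := h.2
  rw [(nbeq_iff _ _).2 (show ipc n n = 32832 by omega)] at h4
  exact absurd h4 (by simp)

theorem not_mem_Orb {β : Co0} {v : Λ} (h : nm v < 64) : cls v ∉ Orb β := by
  rintro ⟨k, e⟩
  have := (cls_eq_iff.1 ((smul_cls k _).symm.trans e)).nm_eq (by rw [nm_smul, nm_e8]) h.le
  rw [nm_smul, nm_e8] at this
  omega

theorem root_short {β : Co0} {r N : ℕ} {c kb : ℕ → ℕ} (hk : keysOK r c kb = true) {L : List ℕ}
    (hL : allL L okS = true) :
    ∀ m < N, inL kb r L m = true → ec (fun i => vec (c i)) r m ∉ Orb β := fun m _ hm => by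
  rw [allL_iff] at hL
  obtain ⟨w, hw, e⟩ := inL_spec hk hm fun w hw => (okS_spec (hL w hw)).1
  rw [e]; exact not_mem_Orb (okS_spec (hL w hw)).2

theorem stabilizer_cls_e8 : stabilizer Co0 (cls (e8 none)) = Mon := by
  ext g
  rw [mem_stabilizer_iff, smul_cls, cls_eq_iff]
  exact ⟨mem_Mon_of_cg, fun h => cg_of_mem_Mon h none⟩

instance finite_Co0 : Finite Co0 := Nat.finite_of_card_ne_zero (by rw [card_Co0]; norm_num)

theorem card_cent_eq (β : Co0) : Nat.card (centralizer ({β} : Set Co0)) =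
    (Orb β).ncard * Nat.card ↥(centralizer ({β} : Set Co0) ⊓ Mon) := by
  rw [← Spor.relIndex_stabilizer, stabilizer_cls_e8, mul_comm, relIndex,
    ← Nat.card_congr (subgroupOfEquivOfLe (inf_le_left : centralizer ({β} : Set Co0) ⊓ Mon ≤ _)).toEquiv,
    card_mul_index]

theorem comm_of_mem {σ τ : M24} {c : Finset GolayPt} {hc : IsCode c}
    (h : perm σ * (sign c hc * perm τ) = sign c hc * perm τ * perm σ) :
    σ.1 • c = c ∧ σ * τ = τ * σ := by
  rw [← mul_assoc, perm_mul_sign, mul_assoc, mul_assoc, ← map_mul, ← map_mul] at h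
  exact sign_mul_perm_inj h

theorem card_cent_Mon_le {σ : M24} {s k M : ℕ} (hs : MB.code σ.1 = s)
    (hk : count2 4096 (fun x => Nat.beq (MB.act s (MB.enc x)) (MB.enc x)) = k)
    (hM : Nat.card (Cen σ.1 []) ≤ M) :
    Nat.card ↥(centralizer ({perm σ} : Set Co0) ⊓ Mon) ≤ k * M := by
  let A : Set ℕ := id '' {x | x < 4096 ∧ Nat.beq (MB.act s (MB.enc x)) (MB.enc x) = true}
  have hA : A.ncard = k := (ncard_image_label (Set.injOn_id _) _).trans hk
  have hf : A.Finite := ((Set.finite_Iio 4096).subset fun x hx => hx.1).image _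
  have := hf.to_subtype
  let F : A × Cen σ.1 [] → Co0 := fun y =>
    sign _ (MB.unmask_enc_mem y.1) * perm ⟨y.2, (mem_Cen.1 y.2.2).1.1⟩
  have h1 : ((centralizer ({perm σ} : Set Co0) ⊓ Mon : Subgroup Co0) : Set Co0) ⊆ Set.range F := by
    rintro _ ⟨h1, c, hc, τ, rfl⟩
    obtain ⟨h2, h3⟩ := comm_of_mem (mem_centralizer_singleton.1 h1)
    obtain ⟨x, hx, e⟩ := MB.exists_enc (MB.mem_CW_iff.1 hc)
    refine ⟨⟨⟨x, x, ⟨hx, ?_⟩, rfl⟩, τ, mem_Cen.2 ⟨⟨τ.2, by simp⟩, congrArg Subtype.val h3.symm⟩⟩, ?_⟩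
    · rw [e, ← hs]; exact MB.smul_eq_iff_act.1 h2
    · simp only [F, e, MB.unmask_mask]
  calc _ ≤ (Set.range F).ncard := by
        rw [← SetLike.coe_sort_coe, Nat.card_coe_set_eq]
        exact Set.ncard_le_ncard h1 (Set.finite_range F)
    _ ≤ Nat.card (A × Cen σ.1 []) := by
        rw [← Set.image_univ, ← Set.ncard_univ]; exact Set.ncard_image_le Set.finite_univ
    _ ≤ _ := by rw [Nat.card_prod, Nat.card_coe_set_eq, hA]; exact Nat.mul_le_mul_left _ hM

/-- The order of the centraliser and the orbit of the standard frame. -/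
theorem count_eq {β : Co0} {r N n M : ℕ} {b : ℕ → Λ} (h : FxD β r N b) {q : ℕ → Bool}
    (h1 : Orb β ⊆ ec b r '' {m | m < N ∧ q m = true}) (h2 : count2 N q = n)
    (h3 : Nat.card ↥(centralizer ({β} : Set Co0) ⊓ Mon) ≤ M)
    {X : Subgroup Co0} (hX : X ≤ centralizer {β}) (h4 : n * M ≤ Nat.card X) :
    X = centralizer {β} ∧ Nat.card X = n * M ∧
      Nat.card ↥(centralizer ({β} : Set Co0) ⊓ Mon) = M ∧ (Orb β).ncard = n ∧
      Orb β = ec b r '' {m | m < N ∧ q m = true} := by
  have hf : (ec b r '' {m | m < N ∧ q m = true}).Finite :=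
    ((Set.finite_Iio N).subset fun x hx => hx.1).image _
  have a1 := Set.ncard_le_ncard h1 hf
  have a0 := (ncard_image_label h.inj q).trans h2
  rw [a0] at a1
  have a2 := card_cent_eq β
  have a3 := card_le_of_le hX
  have a4 : 0 < Nat.card ↥(centralizer ({β} : Set Co0) ⊓ Mon) := Nat.card_pos
  have a5 : 0 < Nat.card (centralizer ({β} : Set Co0)) := Nat.card_pos
  generalize Nat.card ↥(centralizer ({β} : Set Co0) ⊓ Mon) = x at *
  have a6 : (Orb β).ncard * x ≤ n * M := Nat.mul_le_mul a1 h3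
  have a7 : (Orb β).ncard = n := by nlinarith
  rw [a7] at a2
  have a8 : x = M := by
    have : 0 < n := Nat.pos_of_ne_zero fun e => by rw [e, zero_mul] at a2; omega
    nlinarith
  exact ⟨eq_of_le_of_card_ge hX (by rw [a2, a8]; exact h4), by rw [a8] at a2; omega, a8, a7,
    Set.eq_of_subset_of_ncard_le h1 (by rw [a0, a7]) hf⟩

theorem cg_of_pr_mem {β g : Co0} (hg : pr g ∈ zpowers (pr β)) {v : Λ} (hv : Cg (β • v) v) :
    Cg (g • v) v := by
  obtain ⟨n, hn⟩ := mem_zpowers_iff.1 hg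
  rw [← map_zpow] at hn
  refine (cg_smul_of_pr_eq hn v).symm.trans ?_
  rw [← cls_eq_iff, ← smul_cls] at hv ⊢
  exact zpow_mem (show β ∈ stabilizer Co0 (cls v) from hv) n

theorem cdata_of {β : Co0} (hβ : β ∈ Mon) (hodd : Odd (orderOf β)) {w N : ℕ} {b : ℕ → Λ}
    (h : FxD β (2 * w) N b) {T : Type*} [Group T]
    (h0 : pCore 2 T = ⊥ ∨ (Odd (Orb β).ncard ∧ ∀ i < 2 * w, cls (b i) ∈ Orb β))
    {φ : centralizer ({β} : Set Co0) →* T} (hs : Function.Surjective φ)
    (hk : ∀ g, φ g = 1 ↔ pr g ∈ zpowers (pr β))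
    (hf : ∀ g : centralizer ({β} : Set Co0), (∀ m < N, (g : Co0) • ec b (2 * w) m = ec b (2 * w) m) →
      φ g = 1) : CData β φ w := by
  have : Fact (Nat.Prime 2) := ⟨Nat.prime_two⟩
  have : Finite T := Finite.of_surjective φ hs
  refine ⟨hodd, hs, hk, h0.elim id fun ⟨h1, h2⟩ => ?_, fun g hg => hf g fun m _ => ?_, h.card⟩
  · let ρ := toPermHom (centralizer ({β} : Set Co0)) (Orb β)
    have hρ : ∀ g, φ g = 1 → ρ g = 1 := fun g hg => Equiv.ext fun ⟨c, k, e⟩ => Subtype.ext (by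
      change (g : Co0) • c = c
      rw [← e]
      change (g : Co0) • (k : Co0) • cls (e8 none) = (k : Co0) • cls (e8 none)
      rw [smul_cls, smul_cls, cls_eq_iff]
      refine cg_of_pr_mem ((hk g).1 hg) ?_
      rw [← mul_smul, mem_centralizer_singleton.1 k.2, mul_smul]
      exact (cg_of_mem_Mon hβ none).smul _)
    have hP : IsPGroup 2 (((pCore 2 T).comap φ).map ρ) := by
      rintro ⟨_, g, hg, rfl⟩
      obtain ⟨n, hn⟩ := GT.isPGroup_pCore 2 (⟨φ g, hg⟩ : pCore 2 T)
      exact ⟨n, Subtype.ext ((map_pow ρ g _).symm.trans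
        (hρ _ ((map_pow φ g _).trans (congrArg Subtype.val hn))))⟩
    have : Finite (Orb β) := (Set.finite_of_ncard_pos h1.pos).to_subtype
    obtain ⟨⟨_, k, rfl⟩, hc⟩ := hP.nonempty_fixed_point_of_prime_not_dvd_card (Orb β)
      (by rw [Nat.card_coe_set_eq]; exact h1.not_two_dvd_nat)
    rw [eq_bot_iff]
    intro t ht
    obtain ⟨g, rfl⟩ := hs t
    refine hf g fun m _ => ?_
    rw [ec, smul_cls, cls_eq_iff]
    refine cg_smul_comb_self (fun i hi => ?_) m
    obtain ⟨a, ha⟩ := h2 i hi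
    have h3 : (k * a⁻¹ * g * (k * a⁻¹)⁻¹) • k • cls (e8 none) = k • cls (e8 none) :=
      congrArg Subtype.val (hc ⟨ρ _, _, (inferInstance : ((pCore 2 T).comap φ).Normal).conj_mem g ht
        (k * a⁻¹), rfl⟩)
    rw [← cls_eq_iff, ← smul_cls, ← ha]
    change g • a • cls (e8 none) = a • cls (e8 none)
    calc g • a • cls (e8 none) = (a * k⁻¹) • (k * a⁻¹ * g * (k * a⁻¹)⁻¹) • k • cls (e8 none) := by
          simp only [← mul_smul]; congr 1; group
      _ = _ := by rw [h3, mul_smul, inv_smul_smul]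
  · rw [ec, smul_cls, cls_eq_iff]
    exact hg _ (cg_smul_comb_self h.fix m)

/-- The subgroup generated by `β` and `-1`. -/
abbrev Zc (β : Co0) : Subgroup Co0 := (zpowers (pr β)).comap pr

theorem card_Zc {β : Co0} (hodd : Odd (orderOf β)) : Nat.card (Zc β) = 2 * orderOf β := by
  have h1 := card_map_pr (K := Zc β) fun g hg => by
    change pr g ∈ zpowers (pr β)
    rw [pr_eq_one_iff.2 (Leech.mem_center_iff.1 hg)]; exact one_mem _
  rw [map_comap_eq_self_of_surjective pr_surjective, Nat.card_zpowers] at h1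
  rw [← h1, mul_comm]
  congr 1
  refine Nat.dvd_antisymm (orderOf_map_dvd pr β) (orderOf_dvd_of_pow_eq_one ?_)
  rcases (pr_eq_one_iff (g := β ^ orderOf (pr β))).1 (by rw [map_pow, pow_orderOf_eq_one]) with e | e
  · exact e
  · exact absurd (eq_one_of_sq_of_odd hodd (e ▸ npow_mem_zpowers β _) negOne_mul_self) negOne_ne_one

theorem Zc_le {β : Co0} {K : Subgroup Co0} (h1 : β ∈ K) (h2 : negOne ∈ K) : Zc β ≤ K := by
  intro g hg
  obtain ⟨n, hn⟩ := mem_zpowers_iff.1 (show pr g ∈ zpowers (pr β) from hg)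
  rw [← map_zpow] at hn
  rcases pr_eq_iff.1 hn.symm with e | e <;> rw [e]
  exacts [zpow_mem h1 n, mul_mem h2 (zpow_mem h1 n)]

/-- The main criterion: a homomorphism from a subgroup of the centraliser onto a group of the right
order. -/
theorem exists_cdata {β : Co0} (hβ : β ∈ Mon) (hodd : Odd (orderOf β)) {w N n M : ℕ} {b : ℕ → Λ}
    (h : FxD β (2 * w) N b) {q : ℕ → Bool}
    (h1 : Orb β ⊆ ec b (2 * w) '' {m | m < N ∧ q m = true}) (h2 : count2 N q = n)
    (h3 : Nat.card ↥(centralizer ({β} : Set Co0) ⊓ Mon) ≤ M)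
    {X : Subgroup Co0} (hX : X ≤ centralizer {β}) {T : Type*} [Group T]
    (h0 : pCore 2 T = ⊥ ∨ (Odd n ∧ ∀ i < 2 * w, q (2 ^ i) = true)) (ψ : X →* T)
    (hs : Function.Surjective ψ) (hβX : β ∈ X) (hzX : negOne ∈ X)
    (hf' : ∀ g : X, (∀ m < N, (g : Co0) • ec b (2 * w) m = ec b (2 * w) m) → ψ g = 1)
    (h4 : n * M ≤ 2 * orderOf β * Nat.card T) :
    Nat.card ↥(centralizer ({β} : Set Co0) ⊓ Mon) = M ∧
      ∃ φ : centralizer ({β} : Set Co0) →* T, CData β φ w := by
  have a1 : (Zc β).subgroupOf X ≤ ψ.ker := fun g hg => hf' g fun m _ => by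
    rw [ec, smul_cls, cls_eq_iff]
    exact cg_of_pr_mem hg (cg_smul_comb_self h.fix m)
  have a2 := card_le_of_le a1
  rw [Nat.card_congr (subgroupOfEquivOfLe (Zc_le hβX hzX)).toEquiv, card_Zc hodd] at a2
  have a3 := card_mul_index ψ.ker
  rw [index_ker, MonoidHom.range_eq_top.2 hs, card_top] at a3
  have a4 := Nat.mul_le_mul_right (Nat.card T) a2
  obtain ⟨rfl, b2, b3, b4, b5⟩ := count_eq h h1 h2 h3 hX (by omega)
  have : Finite T := Finite.of_surjective ψ hs
  have a5 : (Zc β).subgroupOf _ = ψ.ker := eq_of_le_of_card_ge a1 (by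
    rw [Nat.card_congr (subgroupOfEquivOfLe (Zc_le hβX hzX)).toEquiv, card_Zc hodd]
    exact Nat.le_of_mul_le_mul_right (by omega) (Nat.card_pos (α := T)))
  exact ⟨b3, ψ, cdata_of hβ hodd h (h0.imp_right fun ⟨hn, hq⟩ => ⟨b4 ▸ hn, fun i hi =>
    b5 ▸ ⟨2 ^ i, ⟨h.pow ▸ Nat.pow_lt_pow_right (by norm_num) hi, hq i hi⟩,
      cls_eq_iff.2 (cg_comb_two_pow b hi)⟩⟩) hs
    (fun g => by rw [← MonoidHom.mem_ker, ← a5]; rfl) hf'⟩

/-! ### Types of classes, the element `-1`, objects -/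

theorem type_of_orb {b : ℕ → Λ} {r N n : ℕ} {T : ℕ → ℕ → ℕ} {g : ℕ → Co0} (hT : Tabs (ec b r) N T g n)
    {E : ℕ → ℕ} {root : ℕ → Bool} (hE : allRange 0 N (orbOK T n E root) = true) {P : ℤ → Prop}
    (hroot : ∀ m < N, root m = true → ∃ y, P (nm y) ∧ ec b r m = cls y) :
    ∀ m < N, 256 ≤ E m → ∃ y, P (nm y) ∧ ec b r m = cls y := fun m hm h => by
  obtain ⟨m₀, h1, h2, a, -, h3⟩ := hT.orb_root hE hm h
  obtain ⟨y, h4, h5⟩ := hroot m₀ h1 h2
  exact ⟨a • y, by rwa [nm_smul], by rw [← h3, h5, smul_cls]⟩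

theorem ncard_Fx4 {β : Co0} {r N : ℕ} {b : ℕ → Λ} (h : FxD β r N b) {q : ℕ → Bool}
    (h1 : ∀ m < N, q m = true → ∃ y, nm y = 64 ∧ ec b r m = cls y)
    (h2 : ∀ m < N, q m = false → ∃ y, nm y < 64 ∧ ec b r m = cls y) :
    (Fx4 β).ncard = count2 N q := by
  rw [← ncard_image_label h.inj]
  congr 1
  ext c
  constructor
  · rintro ⟨v, a1, a2, rfl⟩
    obtain ⟨m, hm, e⟩ := h.span v a2
    refine ⟨m, ⟨hm, ?_⟩, (cls_eq_iff.2 e).symm⟩
    by_contra hq
    obtain ⟨y, a3, a4⟩ := h2 m hm (by simpa using hq)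
    have := (e.trans (cls_eq_iff.1 a4)).nm_eq a1.le a3.le
    omega
  · rintro ⟨m, ⟨hm, hq⟩, rfl⟩
    obtain ⟨y, a3, a4⟩ := h1 m hm hq
    exact ⟨y, a3, cls_mem_Fx.1 (a4 ▸ h.eq ▸ ⟨m, hm, rfl⟩), a4⟩

/-- The matrix of `-1`. -/
def rN : ℕ :=
  0xfffffffffffffffffffffffffffffffffffffffffffffffffffffffffffffffffffffffffffffffffffffffffffffff7fffffffffffffffffffffffffffffffffffffffffffffffffffffffffffffffffffffffffffffffffffffffffff7fffffffffffffffffffffffffffffffffffffffffffffffffffffffffffffffffffffffffffffffffffffffffff7fffffffffffffffffffffffffffffffffffffffffffffffffffffffffffffffffffffffffffffffffffffffffff7fffffffffffffffffffffffffffffffffffffffffffffffffffffffffffffffffffffffffffffffffffffffffff7fffffffffffffffffffffffffffffffffffffffffffffffffffffffffffffffffffffffffffffffffffffffffff7fffffffffffffffffffffffffffffffffffffffffffffffffffffffffffffffffffffffffffffffffffffffffff7fffffffffffffffffffffffffffffffffffffffffffffffffffffffffffffffffffffff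ffffffffffffffffffff7fffffffffffffffffffffffffffffffffffffffffffffffffffffffffffffffffffffffffffffffffffffffffff7fffffffffffffffffffffffffffffffffffffffffffffffffffffffffffffffffffffffffffffffffffffffffff7fffffffffffffffffffffffffffffffffffffffffffffffffffffffffffffffffffffffffffffffffffffffffff7fffffffffffffffffffffffffffffffffffffffffffffffffffffffffffffffffffffffffffffffffffffffffff7fffffffffffffffffffffffffffffffffffffffffffffffffffffffffffffffffffffffffffffffffffffffffff7fffffffffffffffffffffffffffffffffffffffffffffffffffffffffffffffffffffffffffffffffffffffffff7fffffffffffffffffffffffffffffffffffffffffffffffffffffffffffffffffffffffffffffffffffffffffff7fffffffffffffffffffffffffffffffffffffffffffffffffffffffffffffffffffffffffffffffffffffffffff7fffffffffffffffffffffffffffffffffffffffffffffffffffffffffffffffffffffffffffffffffffffffffff7fffffffffffffffffffffffffffffffffffffffffffffffffffffffffffffffffffffffffffffffffffffffffff7fffffffffffffffffffffff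ffffffffffffffffffffffffffffffffffffffffffffffffffffffffffffffffffff7fffffffffffffffffffffffffffffffffffffffffffffffffffffffffffffffffffffffffffffffffffffffffff7fffffffffffffffffffffffffffffffffffffffffffffffffffffffffffffffffffffffffffffffffffffffffff7fffffffffffffffffffffffffffffffffffffffffffffffffffffffffffffffffffffffffffffffffffffffffff7fffffffffffffffffffffffffffffffffffffffffffffffffffffffffffffffffffffffffffffffffffffffffff7fffffffffffffffffffffffffffffffffffffffffffffffffffffffffffffffffffffffffffffffffffffffffff800000000000000000000000000000000000000000000000000000000000000000000000000000000000000000000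

theorem matOK_rN : matOK rN = true := by decide +kernel

theorem el_rN : el rN = negOne := by
  have h : ∀ i < 24, ∀ j < 24, mat rN i j = if i = j then -8 else 0 := by decide +kernel
  refine co0_ext_e8 fun p => Subtype.ext (funext fun i => ?_)
  rw [el_e8 matOK_rN, h _ (ptIdx_lt i) _ (ptIdx_lt p), negOne_smul, AddSubgroup.coe_neg, Pi.neg_apply,
    e8_apply]
  simp only [ptIdx_eq_iff]
  split_ifs <;> rfl

theorem smul_image_eq {G α : Type*} [Group G] [MulAction G α] {e : ℕ → α} {n : ℕ} {a : G}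
    (h : ∀ m < n, a • e m = e m) (q : ℕ → Prop) :
    a • (e '' {i | i < n ∧ q i}) = e '' {i | i < n ∧ q i} := by
  rw [← Set.image_smul, Set.image_image]
  exact Set.image_congr fun i hi => h i hi.1

theorem two_mul_card_le {G : Type*} [Group G] {K H : Subgroup G} [Finite H] (hK : K ≤ H) {a : G}
    (ha : a ∈ H) (ha' : a ∉ K) : 2 * Nat.card K ≤ Nat.card H := by
  have h1 := card_mul_index (K.subgroupOf H)
  rw [Nat.card_congr (subgroupOfEquivOfLe hK).toEquiv] at h1
  have h2 : (K.subgroupOf H).index ≠ 1 := fun h =>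
    ha' (mem_subgroupOf.1 ((index_eq_one.1 h).symm ▸ mem_top (⟨a, ha⟩ : H)))
  have h3 : (K.subgroupOf H).index ≠ 0 := index_ne_zero_of_finite
  rw [← h1, mul_comm]
  exact Nat.mul_le_mul_left _ (by omega)

attribute [irreducible] rN ec nk keysOK basOK permOK letOK inL okS

end Cfsg.Agent.Spor.MT
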