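import Mathlib
import Cfsg.Agent.Spor.MTHe1
import Cfsg.Agent.Rec.L52.Final

/-!
# Groups of Monster type: the centraliser of a Sylow 7-subgroup of `C(z, s)` is a central extension of the Held group
-/

set_option autoImplicit false
set_option maxRecDepth 100000

namespace Cfsg.Agent.Spor.MT

open Subgroup Cfsg.Agent.Spor.Leech Cfsg.Agent.Spor.LC Cfsg.Agent.Spor.HeFr
open scoped commutatorElement

/-- If neither of the two invariant elementary abelian subgroups is normalised by an element moving `z`, the group is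
the Held group. -/
theorem he_of_stH {H : Type*} [Group H] [Finite H] (s : Rec.L52.StH H) (hA : IsConj s.z s.x14) (hB : IsConj s.z s.x25)
    (k1 : ∀ y, y * s.z * y⁻¹ = s.x25 → s.x45 * y ≠ y * s.x45) (k2 : ∀ y, y * s.z * y⁻¹ = s.x14 → s.x12 * y ≠ y * s.x12) :
    Nonempty (H ≃* Cfsg.Spor.He) := by
  obtain ⟨t1, t2, g, rfl⟩ := s.exists_stG hA hB
  have : Nontrivial H := ⟨_, _, g.z_ne⟩
  cases t2
  · exact absurd (mul_inv_eq_iff_eq_mul.1 ((mul_one g.x45).symm ▸ g.hy.hd)) (k1 _ g.hy.hz)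
  cases t1
  · exact absurd (mul_inv_eq_iff_eq_mul.1 ((mul_one g.x12).symm ▸ g.hv.hd)) (k2 _ g.hv.hz)
  exact Rec.L52.Gen.equiv_He ⟨_, rfl, g.sat, g.G0_eq_top⟩

variable {G : Type*} [Group G]

/-- The centraliser of the cyclic group generated by `b`. -/
abbrev CB (b : G) : Subgroup G := centralizer (zpowers b : Set G)

theorem mem_CB {b x : G} : x ∈ CB b ↔ b * x = x * b := by
  rw [CB, zpowers_eq_closure, centralizer_closure, mem_centralizer_singleton]

/-- The standard position of `z`, `s` and an element of order 7. -/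
structure Std7 (Q R : Subgroup G) (z s : G) (π : centralizer ({z} : Set G) →* Cfsg.Spor.Co1) (r : Λ → G)
    (b : centralizer ({z} : Set G)) : Prop where
  h : MData Q z π r
  hp : ESPair Q R z s
  hs : Eqv z s (r (e8 none))
  hbs : s * b = b * s
  ord : orderOf (b : G) = 7
  hβ : pr (perm s7) = π b

variable {Q R : Subgroup G} {z s : G} {π : centralizer ({z} : Set G) →* Cfsg.Spor.Co1} {r : Λ → G}
  {b : centralizer ({z} : Set G)}

theorem MData.exists_std7 [Finite G] (h : MData Q z π r) (hp : ESPair Q R z s) {B : Subgroup G}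
    (hB : B ≤ centralizer {z, s}) (hc : Nat.card B = 7) :
    ∃ π' r' b, Std7 Q R z s π' r' b ∧ B = zpowers (b : G) := by
  obtain ⟨_, rfl, π', r', h', hs, b, hb, hbs, hbo, hβ⟩ := h.exists_std hp hB (by norm_num) (by norm_num)
    hc (P := (· = s7)) fun τ hτ => by
      obtain ⟨k, hk, n, hn⟩ := MB.exists_conj_mem_zpowers_x7 τ.2 (by rw [orderOf_coe, hτ])
      exact ⟨_, rfl, orderOf_s7, ⟨k, hk⟩, n, Subtype.ext hn⟩
  exact ⟨π', r', b, ⟨h', hp, hs, hbs, hbo, hβ⟩, hb⟩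

namespace Std7

section

variable (S : Std7 Q R z s π r b)
include S

theorem odd : Odd (orderOf (b : G)) := by rw [S.ord]; decide

theorem oddB : Odd (Nat.card (zpowers (b : G))) := by rw [Nat.card_zpowers]; exact S.odd

theorem hs1 : Eqv z s (r (w7 1)) := S.hs.trans S.h.zz (S.h.eqv_iff.2 w7_e8)

theorem mem_of {q : G} {m : ℕ} (hq : Eqv z q (r (w7 m))) : q ∈ CB (b : G) :=
  mem_CB.2 (S.h.comm_of_cg S.odd S.hβ hq (w7_fix m))

theorem exists_mask {q : G} (hq : q ∈ Q) (hc : q ∈ CB (b : G)) : ∃ m < 64, Eqv z q (r (w7 m)) := by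
  obtain ⟨v, hv⟩ := S.h.r_surj q hq
  obtain ⟨m, hm, e⟩ := w7_span (S.h.cg_of_comm hv (mem_CB.1 hc).symm S.hβ)
  exact ⟨m, hm, hv.trans S.h.zz (S.h.eqv_iff.2 e)⟩

theorem comm_iff {x y : G} {m n : ℕ} (hx : Eqv z x (r (w7 m))) (hy : Eqv z y (r (w7 n))) :
    x * y = y * x ↔ (16 : ℤ) ∣ ipm7 m n := by rw [S.h.comm_iff' hx hy, ip_w7]

theorem eqv_one {x : G} (hx : Eqv z x (r (w7 0))) : x = 1 ∨ x = z := by
  have := hx.trans S.h.zz ((S.h.r_one _).2 (w7_zero ▸ Cg.refl 0))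
  rwa [Eqv, mul_one] at this

theorem exists_nu : ∃ ν : EG →* CB (b : G), (ν Z : G) = z ∧ (ν (Bs 0) : G) = s ∧
    ∀ t, Eqv z (ν t) (r (w7 (msk7 t))) := by
  obtain ⟨x, h0, hx⟩ : ∃ x : Fin 6 → CB (b : G), (x 0 : G) = s ∧ ∀ i, Eqv z (x i) (r (w7 (msk7 (Bs i)))) := by
    have h : ∀ i : Fin 6, Eqv z (if i = 0 then s else r (w7 (msk7 (Bs i)))) (r (w7 (msk7 (Bs i)))) := fun i => by
      split_ifs with h
      exacts [h ▸ S.hs1, Eqv.rfl' _ _]
    exact ⟨fun i => ⟨_, S.mem_of (h i)⟩, rfl, h⟩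
  have hz : z ∈ CB (b : G) := mem_CB.2 (MData.z_comm_coe b).symm
  have a1 : ∀ i, x i * x i = 1 := fun i => Subtype.ext (by
    rw [coe_mul, sq_eq_of_eqv S.h.es.aes (S.h.r_mem _) (hx i), coe_one, S.h.sq_iff, ← ip_self, ip_w7]
    revert i; decide +kernel)
  have a2 : ∀ i, Commute (⟨z, hz⟩ : CB (b : G)) (x i) := fun i => Subtype.ext (S.h.es.z_comm _ (S.h.mem_of_eqv (hx i)))
  have a3 : ∀ i j, (16 : ℤ) ∣ ipm7 (msk7 (Bs i)) (msk7 (Bs j)) → Commute (x i) (x j) := fun i j h =>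
    Subtype.ext ((S.comm_iff (hx i) (hx j)).2 h)
  obtain ⟨ν, b0, b1, b2, b3, b4, b5, b6⟩ := exists_fr (z := (⟨z, hz⟩ : CB (b : G))) (p := fun i => x (i.castAdd 3))
    (q := fun i => x (i.natAdd 3)) (Subtype.ext S.h.zz) (fun _ => a1 _) (fun _ => a1 _) (fun _ => a2 _) (fun _ => a2 _)
    (fun i j => a3 _ _ (by revert i j; decide +kernel)) (fun i j => a3 _ _ (by revert i j; decide +kernel))
    (fun i j h => a3 _ _ (by revert i j; decide +kernel)) fun i => Subtype.ext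
      ((S.h.es.comm _ (S.h.mem_of_eqv (hx _)) _ (S.h.mem_of_eqv (hx _))).resolve_left (by
        rw [S.comm_iff (hx _) (hx _)]; revert i; decide +kernel))
  let P : Submonoid EG :=
    { carrier := {t | Eqv z (ν t) (r (w7 (msk7 t)))}
      one_mem' := by
        change Eqv z (ν 1) (r (w7 0))
        rw [map_one]; exact ((S.h.r_one _).2 (w7_zero ▸ Cg.refl 0)).symm S.h.zz
      mul_mem' := fun {t u} ht hu => by
        change Eqv z (ν (t * u)) _
        rw [map_mul, msk7_mul]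
        exact (Eqv.mul S.h.zz ht hu (S.h.es.z_comm _ (S.h.mem_of_eqv ht))).trans S.h.zz
          (((S.h.eqv_iff.2 (w7_xor _ _)).trans S.h.zz (S.h.r_add _ _)).symm S.h.zz) }
  have c0 : Z ∈ P := by
    change Eqv z (ν Z) (r (w7 0))
    rw [b0]; exact Eqv.trans S.h.zz (Or.inr (mul_one z).symm) (((S.h.r_one _).2 (w7_zero ▸ Cg.refl 0)).symm S.h.zz)
  have c1 : ∀ i, ν (Bs i) = x i → Bs i ∈ P := fun i h => by
    change Eqv z (ν (Bs i)) _
    rw [h]; exact hx i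
  refine ⟨ν, congrArg Subtype.val b0, (congrArg Subtype.val b1).trans h0, fun t => show t ∈ P from ?_⟩
  rw [t.decomp]
  exact mul_mem (mul_mem (mul_mem (mul_mem (mul_mem (mul_mem (pow_mem c0 _) (pow_mem (c1 0 b1) _))
    (pow_mem (c1 1 b2) _)) (pow_mem (c1 2 b3) _)) (pow_mem (c1 3 b4) _)) (pow_mem (c1 4 b5) _)) (pow_mem (c1 5 b6) _)

variable [Finite G]

theorem mem_R {x : G} {m : ℕ} (hx : Eqv z x (r (w7 m))) (hm : m = 19 ∨ m = 29) : x ∈ R := by
  rcases hm with rfl | rfl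
  exacts [S.h.v44_mem S.hp S.hs (by decide) (hx.trans S.h.zz (S.h.eqv_iff.2 w7_19.symm)),
    S.h.v44_mem S.hp S.hs (by decide) (hx.trans S.h.zz (S.h.eqv_iff.2 w7_29.symm))]

theorem key {x : G} (hx : x ∈ Q ⊓ R) (hc : x ∈ CB (b : G)) (hz : IsConj z x) : x = z ∨ x = s ∨ x = z * s := by
  obtain ⟨m, hm, e⟩ := S.exists_mask hx.1 hc
  have h1 : ∀ m < 64, (16 : ℤ) ∣ ipm7 m 1 → (16 : ℤ) ∣ ipm7 m 19 → (16 : ℤ) ∣ ipm7 m 29 → m = 1 ∨ 256 ≤ c7E1 m := by
    decide +kernel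
  rcases h1 m hm ((S.comm_iff e S.hs1).1 (S.hp.E_comm hx ⟨S.hp.s_mem, S.hp.esR.z_mem⟩))
    ((S.comm_iff e (Eqv.rfl' _ _)).1 (S.hp.E_comm hx ⟨S.h.r_mem _, S.mem_R (Eqv.rfl' _ _) (.inl rfl)⟩))
    ((S.comm_iff e (Eqv.rfl' _ _)).1 (S.hp.E_comm hx ⟨S.h.r_mem _, S.mem_R (Eqv.rfl' _ _) (.inr rfl)⟩)) with rfl | h2
  · exact Or.inr (e.trans S.h.zz (S.hs1.symm S.h.zz))
  · refine Or.inl (by_contra fun hne => ?_)
    obtain ⟨g, rfl⟩ := isConj_iff.1 hz
    obtain ⟨v, h3, h4⟩ := S.h.exists_type_four (S.h.pair hx.1 hne)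
    obtain ⟨y, h5, h6⟩ := w7_short hm h2
    have := ((S.h.eqv_iff.1 ((h3.symm S.h.zz).trans S.h.zz e)).trans h6).nm_eq h4.le h5.le
    omega

theorem isConj_of_four {x : G} {m : ℕ} (hx : Eqv z x (r (w7 m))) (hm : m < 64) (h4 : 256 ≤ c7E3 m) :
    IsConj z x ∧ x ≠ z := by
  obtain ⟨y, h1, h2⟩ := w7_four hm h4
  have h3 := hx.trans S.h.zz (S.h.eqv_iff.2 h2)
  obtain ⟨g, -, e⟩ := S.hp.conj
  exact ⟨S.h.isConj_of_type_four ⟨g, e ▸ S.hp.s_mem, e ▸ S.hp.ne.symm⟩ h3 h1, (S.h.ne_of_eqv h3 h1.le (by omega)).2⟩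

theorem exists_swap {x : G} {m : ℕ} (hx : Eqv z x (r (w7 m))) (hm : m < 64) (h4 : 256 ≤ c7E3 m) :
    ∃ c ∈ CB (b : G), c * z * c⁻¹ = x := by
  obtain ⟨h1, h2⟩ := S.isConj_of_four hx hm h4
  have h3 := S.mem_of hx
  obtain ⟨g, rfl⟩ := isConj_iff.1 h1
  obtain ⟨c, hc, e, -⟩ := (S.h.pair (S.h.mem_of_eqv hx) h2).exists_swap_odd S.oddB
    (fun a ha => (mem_centralizer_iff.1 (mem_CB.2 (MData.z_comm_coe b).symm) a ha).symm)
    fun a ha => (mem_centralizer_iff.1 h3 a ha).symm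
  exact ⟨c, (sup_le inf_le_right inf_le_right : _ ≤ CB (b : G)) hc, e⟩

/-- An element commuting with `z`, `b` and the basis lies in `⟨b, z⟩`. -/
theorem cent {c : G} (hz : z * c = c * z) (hc : c ∈ CB (b : G)) {x : Fin 6 → G}
    (hx : ∀ i, Eqv z (x i) (r (w7 (msk7 (Bs i))))) (h : ∀ i, x i * c = c * x i) :
    ∃ a ∈ zpowers (b : G), c = a ∨ c = a * z := by
  obtain ⟨φ, hφ⟩ := cdata7
  let c' : centralizer ({z} : Set G) := ⟨c, mem_centralizer_singleton.2 hz⟩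
  obtain ⟨g, hg⟩ := pr_surjective (π c')
  have h1 : g ∈ centralizer ({perm s7} : Set Co0) := mem_centralizer_singleton.2 (comm_of_pr_comm hφ.odd (by
    rw [hg, S.hβ, ← map_mul, ← map_mul]; congr 1; exact Subtype.ext (mem_CB.1 hc).symm)).symm
  obtain ⟨n, hn⟩ := (hφ.ker ⟨g, h1⟩).1 (hφ.faith _ fun v => cg_of_basis fun i => S.h.cg_of_comm (hx i) (x := c') (h i) hg)
  have h2 : ((b : G) ^ n)⁻¹ * c ∈ Q :=
    (S.h.ker ((b ^ n)⁻¹ * c')).1 (by rw [map_mul, map_inv, map_zpow, ← S.hβ, ← hg, ← show _ = pr g from hn]; simp)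
  obtain ⟨m, hm, e⟩ := S.exists_mask h2 (mul_mem (inv_mem (zpow_mem (mem_CB.2 rfl) n)) hc)
  have h3 : ∀ m < 64, (∀ i, (16 : ℤ) ∣ ipm7 (msk7 (Bs i)) m) → m = 0 := by decide +kernel
  obtain rfl := h3 m hm fun i => (S.comm_iff (hx i) e).1
    (Commute.mul_right (Commute.zpow_right (mem_CB.1 (S.mem_of (hx i))).symm n).inv_right (h i)).eq
  exact ⟨_, ⟨n, rfl⟩, (S.eqv_one e).imp (fun a => (inv_mul_eq_one.1 a).symm) fun a => inv_mul_eq_iff_eq_mul.1 a⟩

theorem card_D : Nat.card ((centralizer ({z} : Set G)).subgroupOf (CB (b : G))) ≤ 7 * 21504 := by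
  have h1 := card_eq_ker_mul π ((CB (b : G)).subgroupOf (centralizer {z}))
  have h2 : Nat.card ↥(π.ker ⊓ (CB (b : G)).subgroupOf (centralizer {z})) = 128 := by
    have := S.h.ncard_eqv (S := Fx (perm s7)) fun c ⟨v, _, e⟩ => ⟨v, e⟩
    rw [c7_fx.card, ← Nat.card_coe_set_eq] at this
    rw [← card_map_of_injective (centralizer ({z} : Set G)).subtype_injective]
    refine Eq.trans (Nat.card_congr (Equiv.subtypeEquivRight fun q => Iff.trans ?_ (S.h.mem_fix_iff S.odd S.hβ))) this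
    exact ⟨fun ⟨y, hy, e⟩ => e ▸ ⟨(S.h.ker y).1 hy.1, hy.2⟩, fun hq =>
      ⟨⟨q, mem_centralizer_singleton.2 (S.h.es.z_comm q hq.1)⟩, ⟨(S.h.ker _).2 hq.1, hq.2⟩, rfl⟩⟩
  have h3 : ((CB (b : G)).subgroupOf (centralizer {z})).map π ≤ (centralizer {perm s7}).map pr := by
    rintro _ ⟨x, hx, rfl⟩
    obtain ⟨g, hg⟩ := pr_surjective (π x)
    refine ⟨g, mem_centralizer_singleton.2 (comm_of_pr_comm ?_ ?_).symm, hg⟩
    · rw [orderOf_injective perm perm_injective, orderOf_s7]; decide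
    · rw [hg, S.hβ, ← map_mul, ← map_mul]; congr 1; exact Subtype.ext (mem_CB.1 hx).symm
  have h4 := card_map_pr (K := centralizer {perm s7}) fun a ha => mem_centralizer_singleton.2 (mem_center_iff.1 ha _)
  have h5 := card_le_of_le h3
  rw [card_cent7] at h4
  rw [← card_map_of_injective (CB (b : G)).subtype_injective, subgroupOf_map_subtype, inf_comm,
    ← subgroupOf_map_subtype, card_map_of_injective (centralizer ({z} : Set G)).subtype_injective, h1, h2]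
  omega

theorem exists_tau : ∃ τ : centralizer ({z} : Set G), (τ : G) ∈ R ∧ (τ : G) ∈ CB (b : G) ∧ pr (el (c7R 0)) = π τ := by
  obtain ⟨y, hy, e⟩ : pr (el (c7R 0)) ∈ (R.subgroupOf (centralizer {z})).map π :=
    (S.h.img_eq S.hp S.hs).1 ▸ mem_map_of_mem _ c7R_sgn
  have hn : zpowers (b : G) ≤ normalizer ((Q ⊓ R : Subgroup G) : Set G) := zpowers_le.2
    (inf_normalizer_le_normalizer_inf ⟨S.h.lg.mem_normalizer (MData.z_comm_coe b), S.hp.lgR.mem_normalizer S.hbs⟩)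
  have h2 := S.h.es.isPGroup.to_le (inf_le_left : Q ⊓ R ≤ Q)
  obtain ⟨q, hq, c, hc, e'⟩ := GT.CopAct.exists_eq_mul_centralizer hn (coprime_of_odd_of_isPGroup S.oddB h2)
    (Or.inr (isSolvable_of_isPGroup_two h2)) (k := y) (by
      rintro _ ⟨n, rfl⟩
      have h3 : Commute (el (c7R 0)) (perm s7) := (mem_centralizer_singleton.1 (c7_tabs.2.1 0 (by norm_num))).symm
      have h4 := (S.h.ker ⁅y, b ^ n⁆).1 (by
        rw [map_commutatorElement, map_zpow, e, ← S.hβ, ← map_zpow, ← map_commutatorElement,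
          (h3.zpow_right n).commutator_eq, map_one])
      refine ⟨by simpa [commutatorElement_def] using h4, ?_⟩
      rw [commutatorElement_def, mul_assoc, mul_assoc, ← mul_assoc _ (y : G)⁻¹]
      exact mul_mem hy (S.hp.lgR.norm _ (Commute.zpow_right S.hbs n) _ (inv_mem hy)))
  let q' : centralizer ({z} : Set G) := ⟨q, mem_centralizer_singleton.2 (S.h.es.z_comm q hq.1)⟩
  refine ⟨q'⁻¹ * y, mul_mem (inv_mem hq.2) hy, ?_, by rw [map_mul, map_inv, (S.h.ker q').2 hq.1, inv_one, one_mul, e]⟩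
  change q⁻¹ * y ∈ _
  rw [← e', inv_mul_cancel_left]; exact hc

theorem no_move {x y c : G} (hx : x ∈ Q) (hxc : x ∈ CB (b : G)) (hy : y ∈ Q) (hyc : y ∈ CB (b : G))
    (hzy : IsConj z y) (e : c * z * c⁻¹ = x) (hne : x ≠ z) (hc : y * c = c * y) : y = z ∨ y = x ∨ y = z * x := by
  subst e
  have hp := S.h.pair hx hne
  obtain ⟨π', r', b', S', e⟩ := S.h.exists_std7 hp (B := zpowers (b : G)) (zpowers_le.2 (mem_centralizer_pair.2
    ⟨MData.z_comm_coe b, (mem_CB.1 hxc).symm⟩)) (by rw [Nat.card_zpowers, S.ord])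
  refine S'.key ⟨hy, mem_map_conj_iff.2 ?_⟩ (by rwa [CB, ← e]) hzy
  rwa [mul_assoc, hc, inv_mul_cancel_left]

variable {H : Type*} [Group H] {f : CB (b : G) →* H} (hker : ∀ x, f x = 1 ↔ (x : G) ∈ zpowers (b : G))
include hker

omit [Finite G] in
theorem inj_sq {x y : CB (b : G)} (hx : x * x = 1) (hy : y * y = 1) (e : f x = f y) : x = y := by
  have h1 := (hker (x * y⁻¹)).1 (by rw [map_mul, map_inv, e, mul_inv_cancel])
  have h2 : x * y⁻¹ * y = y * (x * y⁻¹) := Subtype.ext (mem_centralizer_iff.1 y.2 _ h1)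
  rw [inv_mul_cancel_right] at h2
  refine mul_inv_eq_one.1 (Subtype.ext (eq_one_of_odd_of_sq S.oddB h1 ?_))
  rw [← coe_mul, OneMemClass.coe_eq_one]
  calc _ = x * (y⁻¹ * (y * (x * y⁻¹)) * y⁻¹) := by rw [← h2]; group
    _ = x * x * (y * y)⁻¹ := by group
    _ = 1 := by rw [hx, hy]; group

omit [Finite G] in
theorem comm_lift {x c : CB (b : G)} (hx : x * x = 1) (e : f x * f c = f c * f x) : (x : G) * c = c * x :=
  comm_of_quot_comm_odd (congrArg Subtype.val hx) S.oddB (fun a ha => (mem_centralizer_iff.1 x.2 a ha).symm) hker x.2 e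

theorem iso_He (hf : Function.Surjective f) : Nonempty (H ≃* Cfsg.Spor.He) := by
  have : Finite H := Finite.of_surjective f hf
  obtain ⟨ν, hZ, h0, hν⟩ := S.exists_nu
  have sq : ∀ t : EG, t * t = 1 → ν t * ν t = 1 := fun t h => by rw [← map_mul, h, map_one]
  have sqB : ∀ i, ν (Bs i) * ν (Bs i) = 1 := fun i => sq _ (by revert i; decide +kernel)
  have hz1 : f.comp ν Z ≠ 1 := fun e => S.h.es.z_ne
    (hZ ▸ congrArg Subtype.val (S.inj_sq hker (zz ν) (mul_one 1) (e.trans (map_one f).symm)))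
  have em : ∀ {w x y : CB (b : G)}, Eqv (w : G) x y → Eqv (f w) (f x) (f y) := fun h => h.imp
    (fun e => congrArg f (Subtype.ext e)) fun e => (congrArg f (Subtype.ext e)).trans (map_mul f _ _)
  have zc : ∀ {c}, f (ν Z) * f c = f c * f (ν Z) → z * c = c * z := fun {c} h => by
    have := S.comm_lift hker (zz ν) h
    rwa [hZ] at this
  have hc : Cz (f.comp ν) := fun x hx => by
    obtain ⟨c, rfl⟩ := hf x
    obtain ⟨a, ha, e⟩ := S.cent (zc (hx Z).symm) c.2 (fun i => hν (Bs i))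
      fun i => S.comm_lift hker (sqB i) (hx _).symm
    have h1 : a ∈ CB (b : G) := by obtain ⟨n, rfl⟩ := ha; exact zpow_mem (mem_CB.2 rfl) n
    have h2 := (hker ⟨a, h1⟩).2 ha
    refine e.imp (fun e => (congrArg f (Subtype.ext e)).trans h2) fun e => ?_
    rw [show c = ⟨a, h1⟩ * ν Z from Subtype.ext (by rw [coe_mul, hZ]; exact e), map_mul, h2, one_mul]; rfl
  have act : ∀ (l : ℕ) (T : EG → EG), (l < 5 ∧ ∀ i, msk7 (Bs i) < 64 ∧ xs (c7W l) 6 (msk7 (Bs i)) = msk7 (T (Bs i))) →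
      ∀ (x : centralizer ({z} : Set G)) (hx : (x : G) ∈ CB (b : G)), pr (el (c7R l)) = π x →
      ActZ (f.comp ν) (f ⟨x, hx⟩) T := fun l T hT x hx e => by
    refine ⟨?_, fun i => ?_⟩
    · rw [MonoidHom.comp_apply, ← map_mul, ← map_mul]; congr 1
      exact Subtype.ext (by rw [coe_mul, coe_mul, hZ]; exact MData.z_comm_coe x)
    · simp only [MonoidHom.comp_apply, ← map_inv, ← map_mul]
      refine em ?_
      rw [hZ]
      exact ((((hν _).conj (MData.z_comm_coe x)).trans S.h.zz ((S.h.r_smul x _ e _).symm S.h.zz)).trans S.h.zz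
        (S.h.eqv_iff.2 (w7_tab hT.1 (hT.2 i).1))).trans S.h.zz (((hT.2 i).2 ▸ hν _).symm S.h.zz)
  have lift : ∀ l < 5, ∃ (x : centralizer ({z} : Set G)) (_ : (x : G) ∈ CB (b : G)), pr (el (c7R l)) = π x :=
    fun l hl => by
      obtain ⟨x, h1, h2⟩ := S.h.exists_lift_comm S.odd S.hβ (mem_centralizer_singleton.1 (c7_tabs.2.1 l hl)).symm
      exact ⟨x, mem_CB.2 h2, h1⟩
  obtain ⟨τ, τ1, τ2, τ3⟩ := S.exists_tau
  have hτ := act 0 Ta (by decide +kernel) τ τ2 τ3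
  obtain ⟨_, ha⟩ := hτ.exact
  obtain ⟨x1, a1, a2⟩ := lift 1 (by norm_num)
  obtain ⟨_, hf'⟩ := (act 1 Tf (by decide +kernel) x1 a1 a2).exact
  obtain ⟨x2, a3, a4⟩ := lift 2 (by norm_num)
  obtain ⟨_, hb⟩ := (act 2 Tb (by decide +kernel) x2 a3 a4).exact
  have mR : ∀ t, msk7 (t * Bs 0) = 19 ∨ msk7 (t * Bs 0) = 29 → f.comp ν t ∈ (R.subgroupOf (CB (b : G))).map f :=
    fun t ht => ⟨ν t, by
      have h1 := S.mem_R (hν _) ht
      rw [map_mul, coe_mul, h0] at h1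
      exact (mul_mem_cancel_right S.hp.esR.z_mem).1 h1, rfl⟩
  have h2 := sq_of_sub hc ha hτ (R := (R.subgroupOf (CB (b : G))).map f) ⟨_, τ1, rfl⟩ (mR _ (by decide +kernel))
    (mR _ (by decide +kernel))
    (by
      rintro _ ⟨x, hx, rfl⟩
      rw [MonoidHom.comp_apply, ← map_mul, ← map_mul]; congr 1
      exact Subtype.ext (by rw [coe_mul, coe_mul, h0]; exact (S.hp.esR.z_comm _ hx).symm))
    (by
      rintro _ ⟨x, hx, rfl⟩
      rw [← map_mul]
      exact (S.hp.esR.sq _ hx).imp (fun e => (congrArg f (Subtype.ext e)).trans (map_one f))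
        fun e => congrArg f (Subtype.ext (e.trans h0.symm)))
    (by
      rintro _ ⟨x, hx, rfl⟩ _ ⟨y, hy, rfl⟩
      simp only [MonoidHom.comp_apply, ← map_mul]
      exact (S.hp.esR.comm _ hx _ hy).imp (fun e => congrArg f (Subtype.ext e))
        fun e => congrArg f (Subtype.ext (by rw [coe_mul, coe_mul, coe_mul, h0]; exact e))) hz1
  have hN : Nat.card (centralizer ({f.comp ν Z} : Set H)) ≤ 21504 := by
    have h3 := card_eq_ker_mul f ((centralizer ({z} : Set G)).subgroupOf (CB (b : G)))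
    have h4 : centralizer ({f.comp ν Z} : Set H) ≤ ((centralizer ({z} : Set G)).subgroupOf (CB (b : G))).map f :=
      fun y hy => by
        obtain ⟨c, rfl⟩ := hf y
        exact ⟨c, mem_centralizer_singleton.2 (zc (mem_centralizer_singleton.1 hy)), rfl⟩
    have h5 : zpowers (⟨b, mem_CB.2 rfl⟩ : CB (b : G)) ≤ f.ker ⊓ (centralizer ({z} : Set G)).subgroupOf (CB (b : G)) :=
      zpowers_le.2 ⟨(hker _).2 (mem_zpowers _), b.2⟩
    have h6 := card_le_of_le h5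
    rw [Nat.card_zpowers, ← orderOf_coe, show orderOf _ = 7 from S.ord] at h6
    have h7 := Nat.mul_le_mul h6 (card_le_of_le h4)
    have h8 := S.card_D
    omega
  obtain ⟨st, e0, -, e2, e3, -, e5, e6⟩ := exists_stH hc hz1 ha hf' hb h2 hN
  have four : ∀ i, msk7 (Bs i) < 64 ∧ 256 ≤ c7E3 (msk7 (Bs i)) := by decide +kernel
  have cj : ∀ i, IsConj (f.comp ν Z) (f.comp ν (Bs i)) := fun i => by
    obtain ⟨c, h3, h4⟩ := S.exists_swap (hν _) (four i).1 (four i).2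
    refine isConj_iff.2 ⟨f ⟨c, h3⟩, ?_⟩
    simp only [MonoidHom.comp_apply, ← map_inv, ← map_mul]
    exact congrArg f (Subtype.ext (by rw [coe_mul, coe_mul, hZ]; exact h4))
  have ex : ∀ i j k, (Bs k * Bs i = Bs i * Bs k ∧ Bs k * Bs j = Z * (Bs j * Bs k)) → ∀ y,
      y * f.comp ν Z * y⁻¹ = f.comp ν (Bs i) → f.comp ν (Bs j) * y ≠ y * f.comp ν (Bs j) := by
    intro i j k hk y h3 h4
    obtain ⟨c, rfl⟩ := hf y
    have h5 : c * ν Z * c⁻¹ = ν (Bs i) := S.inj_sq hker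
      (by rw [conj_mul, zz, mul_one, mul_inv_cancel]) (sqB i) (by rw [map_mul, map_mul, map_inv]; exact h3)
    have h6 := S.no_move (S.h.mem_of_eqv (hν _)) (ν (Bs i)).2 (S.h.mem_of_eqv (hν _)) (ν (Bs j)).2
      (S.isConj_of_four (hν _) (four j).1 (four j).2).1 (c := c) (by have := congrArg Subtype.val h5; rwa [coe_mul, coe_mul, hZ] at this)
      (S.isConj_of_four (hν _) (four i).1 (four i).2).2 (S.comm_lift hker (sqB j) h4)
    have h7 : Commute (ν (Bs k)) (ν (Bs i)) := by rw [Commute, SemiconjBy, ← map_mul, hk.1, map_mul]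
    have h8 : Commute (ν (Bs k)) (ν Z) := (z_comm ν _).symm
    have h9 : Commute (ν (Bs k)) (ν (Bs j)) := by
      rcases h6 with e | e | e
      · rw [Subtype.ext (e.trans hZ.symm)]; exact h8
      · rw [Subtype.ext e]; exact h7
      · rw [show ν (Bs j) = ν Z * ν (Bs i) from Subtype.ext (by rw [coe_mul, hZ]; exact e)]; exact h8.mul_right h7
    have h10 := congrArg ν hk.2
    rw [map_mul, h9.eq, map_mul, map_mul, right_eq_mul] at h10
    exact hz1 (by rw [MonoidHom.comp_apply, h10, map_one])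
  refine he_of_stH st ?_ ?_ ?_ ?_
  · rw [e0, e3]; exact cj 2
  · rw [e0, e5]; exact cj 4
  · rw [e0, e5, e6]; exact ex 4 5 2 (by decide +kernel)
  · rw [e0, e3, e2]; exact ex 2 1 4 (by decide +kernel)

end

end Std7

end Cfsg.Agent.Spor.MT
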