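import Mathlib
import Cfsg.Agent.Spor.MTHe2
import Cfsg.Agent.GT.FStar
import Cfsg.Agent.GT.Cores
import Cfsg.Agent.GT.Conj

/-!
# Groups of Monster type: the automiser of a Sylow 7-subgroup of `C(z, s)`
-/

set_option autoImplicit false
set_option maxRecDepth 100000

namespace Cfsg.Agent.Spor.MT

open Subgroup Cfsg.Agent.Spor.Leech Cfsg.Agent.Spor.LC

/-- A change of frame. -/
def c7K : ℕ :=
  0x10002fffb0001000100010001000100010002ffff0001000100010000ffff0001000100010000ffff00010000fffeffff00010000fffefffeffff0002fffeffff00010000fffefffeffff0002fffcffff0002ffff00030000fffeffff00010001000100010002fffeffff0002fffeffff000100010002fffefffeffff0000fffefffefffeffff0000ffff0002fffd00010001000100030002fffefffefffeffff00010000fffefffefffeffff000100030002fffefffefffcfffeffff0001000100010000fffefffefffeffff0002ffff0000fffcfffefffefffeffff00010002fffeffff00030000ffff00030001000100010000ffff00030002fffefffeffff00010000fffefffefffeffff0000fffeffff000300030000fffefffefffd000100010000fffefffefffefffefffeffff000100010002ffff0002fff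efffd0002ffff0002ffff0000fffeffff0001000100010000ffff0002ffff0002fffeffff0000fffcfffeffff0002ffff0000fffefffefffeffff00010002ffff0001000100010000fffeffff0002fffefffeffff00010000fffeffff000300030000fffefffefffefffefffcffff00030001000100010000fffefffefffefffefffeffff00010000ffff0002ffff000300010002fffefffeffff00010002fffefffd000100010000ffff0002fffeffff0002ffff000100010002fffeffff00030000fffefffefffeffff0000fffeffff0000fffd00010000fffeffff0002fffefffeffff0000fffd00030002fffeffff0000ffff0002fffeffff0000fffeffff00010000fffeffff0000fffd000100010000fffcfffeffff0000fffd0001000100030001000100010000ffff0000fffcfffeffff00030003000100010001000100010000fffaffff0001000100010000ffff0001000100010000ffff00010000fffeffff00010000fffefffeffff00030002ffff00010000ffff0002fffeffff0000fffeffff0002fffefffcfffeffff0001000100010000fffefffefffefffefffeffff00010000fffefffefffeffff0000ffff00030002ffff0001000300030000fffd000100010002ffff0002ffff0002ffff00010000fffefffefffefffefffcfffefffefffeffff00010002ffff00010000fffeffff00010000fffcfffd0000fff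cfffeffff0001000100010000fffefffd000100010000ffff00010000ffff0002fffefffefffd0001000100010000fffcffff0003000100010000fffcffff00010000fffd0000ffff00010000fffefffefffeffff0001000100010000fffcfffcfffeffff00010000fffd0000ffff0000fffd00010000ffff000100010002ffff000100010002fffefffefffefffeffff00010000ffff00030002ffff0000fffefffeffff00030000fffeffff0000fffcfffeffff00010001000100010000fffcfffefffefffd000100010000ffff000100010000fffd0002fffd0000fffeffff00010000fffefffefffefffefffeffff0000fffcfffefffefffefffefffcfffefffefffefffefffcfffefffefffcfffcfffb00030001000100010001000100010002ffff0001000100010000ffff0001000100010000ffff00010000fffeffff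

/-- A change of signs on a dodecad. -/
def c7D : ℕ :=
  0xfffffffffffffffffffffffffffffffffffffffffffffffffffffffffffffffffffffffffffffffffffffffffffffff7fffffffffffffffffffffffffffffffffffffffffffffffffffffffffffffffffffffffffffffffffffffffffff7fffffffffffffffffffffffffffffffffffffffffffffffffffffffffffffffffffffffffffffffffffffffffff7fffffffffffffffffffffffffffffffffffffffffffffffffffffffffffffffffffffffffffffffffffffffffff7fffffffffffffffffffffffffffffffffffffffffffffffffffffffffffffffffffffffffffffffffffffffffff800000000000000000000000000000000000000000000000000000000000000000000000000000000000000000008000000000000000000000000000000000000000000000000000000000000000000000000000000000000000000080000000000000000000000000000000000000000000000000000000000000000000000000000000000000000000800000000000000000000000000000000000000000000000000000000000000000000000000000000000000000007fffffffffffffffffffffffffffffffffffffffffffffffffffffffffffffffffffffffffffffffffffffffffff8000000000000000000000000000000000000000000000000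00000000000000000000000000000000000000000007fffffffffffffffffffffffffffffffffffffffffffffffffffffffffffffffffffffffffffffffffffffffffff7fffffffffffffffffffffffffffffffffffffffffffffffffffffffffffffffffffffffffffffffffffffffffff7fffffffffffffffffffffffffffffffffffffffffffffffffffffffffffffffffffffffffffffffffffffffffff7fffffffffffffffffffffffffffffffffffffffffffffffffffffffffffffffffffffffffffffffffffffffffff7fffffffffffffffffffffffffffffffffffffffffffffffffffffffffffffffffffffffffffffffffffffffffff800000000000000000000000000000000000000000000000000000000000000000000000000000000000000000007fffffffffffffffffffffffffffffffffffffffffffffffffffffffffffffffffffffffffffffffffffffffffff800000000000000000000000000000000000000000000000000000000000000000000000000000000000000000008000000000000000000000000000000000000000000000000000000000000000000000000000000000000000000080000000000000000000000000000000000000000000000000000000000000000000000000000000000000000000800000000000000000000000000000000000000000000000000000000000000000000000000000000000000000008000000000000000000000000000000000000000000000000000000000000000000000000000000000000000000080000000000000000000000000000000000000000000000000000000000000000000000000000000000000000000800000000000000000000000000000000000000000000000000000000000000000000000000000000000000000000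

/-- The element of order 7 in the new frame. -/
def c7B : ℕ :=
  0x100010000fffefffeffff000100010000fffeffff0002fffd000100010000ffff00010002ffff0000ffff00010003000300010000ffff0002ffff000100010000ffff0002ffff0001000100010000fffefffcffff00030000ffff0000ffff0002fffeffff000100010000fffefffeffff0000fffd000100030002fffefffefffcffff0001000100030000ffff00010001000100010002fffeffff00010001000100030002ffff00010000fffd0000ffff00010002ffff0000ffff0000fffefffefffeffff0000fffd0000fffefffefffefffd000100010002fffeffff00030000ffff00010000ffff0001000300010000fffeffff000100010000ffff0002fffefffd00010000ffff0002fffeffff0001000300010000ffff0000fffefffd0000fffeffff000100010000fffefffeffff000100010000ffff0003000300030000ffff00010000fffefffcffff0000fffd000100010002fffeffff000100010000fffefffeffff000100010000fffd00030000ffff00030000ffff00010002fffefffeffff000100010000fffefffeffff00010000fffcfffeffff0002fffefffd000300010000ffff0001000300010000fffeffff00010000fffcfffefffeffff000100010000fffefffeffff000300010002fffd000100030000ffff0001000100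010000ffff0002ffff0000fffd0000fffefffeffff0001000100010001000300010002ffff000100030000fffefffefffeffff0001000100010002fffeffff000100010000ffff0002fffeffff0000fffefffcfffcffff0001000300010000fffefffefffd00010000ffff0002ffff000100010000fffefffefffeffff0000ffff000100010003000100030000fffd00010000fffeffff0002fffd000100010002fffeffff000100010001000100030000fffeffff0000ffff0000ffff000300010000fffeffff0003000100010000ffff0002ffff0001000100010000ffff0000fffeffff00010002fffd0002ffff00010000fffefffeffff0001000100010002ffff00030001000100010000ffff0000ffff0002fffd00030000fffefffefffcfffcfffefffeffff000100010004fffefffeffff0001000100010000ffff0000fffeffff0000ffff0000fffefffefffeffff00010000fffcffff0002ffff0001000100010002ffff0002ffff0000ffff0000fffcffff0000ffff0001000100010001000300030003000100010000fffeffff00030000fffd00010000ffff0000fffeffff0000ffff0000fffefffefffeffff00010001000100030002ffff0000fffcfffcfffefffeffff00030000ffff00010000ffff0000ffff00010000fffeffff0000fffd00010002fffeffff000100010000fffeffff0002ffff0000ffff0001000100030000fffefffd0000fffefffefffd000100010002fffeffff0001000100010002fffefffeffff0001000300010000fffefffcffff00010000fffd0004fffefffeffff00010000fffcfffefffeffff0001000100010000ffff0000fffeffff0000ffff0000fffeffff0004fffcfffefffeffff00010000fffcfffefffeffff0001000100010000ffff0000fffeffff0000ffff0000fffeffff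

theorem c7_inv : ∃ (k : Co0) (c : Finset GolayPt) (hc : IsCode c), some 0 ∉ c ∧ none ∈ c ∧
    sign c hc * (k⁻¹ * perm s7 * k) * sign c hc * (k⁻¹ * perm s7 * k) = 1 := by
  have hR : ∀ l < 4, matOK (BT.get (.node (.node (.leaf c7S) (.leaf c7D)) (.node (.leaf c7K) (.leaf c7B))) l) = true := by
    decide +kernel
  have h1 := eq_of_eqW hR (v := [0, 1]) (w := [1, 3]) (by decide +kernel)
  have h2 := eq_of_eqW hR (v := [2, 3, 2, 3]) (w := []) (by decide +kernel)
  simp only [evalW_cons, evalW_nil, mul_one, ← mul_assoc] at h1 h2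
  have h3 : el c7S * el c7K = el c7K * el c7B := h1
  have h4 : el c7D * el c7B * el c7D * el c7B = 1 := h2
  refine ⟨el c7K, Golay.maskSet 16277312, isCode_maskSet.2 (by decide +kernel), by decide +kernel, by decide +kernel, ?_⟩
  rw [← c7_perm.2, mul_assoc (el c7K)⁻¹, h3, inv_mul_cancel_left,
    ← el_eq_sign (R := c7D) (hR 2 (by norm_num)) (by decide +kernel) (by decide +kernel)]
  exact h4

theorem c7_sq : ∃ σ : M24, σ * s7 * σ⁻¹ = s7 ^ 2 := by
  have h : MB.code (MB.toPerm 969910755176304412474811566361348128) = 969910755176304412474811566361348128 :=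
    MB.code_toPerm (by decide +kernel)
  refine ⟨⟨MB.toPerm 969910755176304412474811566361348128, MB.toPerm_mem (by decide +kernel)⟩,
    mul_inv_eq_iff_eq_mul.2 (Subtype.ext (MB.code_injective ?_))⟩
  change MB.code (_ * MB.x7) = MB.code (MB.x7 ^ 2 * _)
  rw [sq, MB.code_mul, MB.code_mul, MB.code_mul, h, MB.code_x7]
  decide +kernel

theorem not_inverts_Mon {g : Co0} (hg : g ∈ Mon) (h : pr (perm s7) * pr g * pr (perm s7) = pr g) : False := by
  obtain ⟨a, ha, τ, rfl⟩ := exists_Sgn_mul_perm hg
  have h1 : perm s7 * (a * perm τ) * perm s7 * (a * perm τ)⁻¹ ∈ Sgn :=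
    center_le_Sgn ((QuotientGroup.eq_one_iff _).1 (show pr _ = 1 by
      rw [map_mul, map_mul, map_mul, h, map_inv, mul_inv_cancel]))
  have h2 : perm (s7 * τ * s7 * τ⁻¹) ∈ Sgn := by
    have := mul_mem (mul_mem (inv_mem (conj_mem_Sgn (perm_mem_Mon s7) ha)) h1) ha
    convert this using 1
    simp only [map_mul, map_inv]; group
  exact not_inverts_x7 τ.2 (congrArg Subtype.val (mul_inv_eq_one.1 (eq_one_of_perm_mem_Sgn h2)))

/-- Two elements of prime order with the same image modulo a kernel of coprime order are conjugate. -/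
theorem exists_conj_of_map_eq {A T : Type*} [Group A] [Finite A] [Group T] (f : A →* T) {p : ℕ} [Fact p.Prime]
    (hk : ¬ p ∣ Nat.card f.ker) {u v : A} (hu : u ^ p = 1) (hv : v ^ p = 1) (e : f u = f v) :
    ∃ q, q * u * q⁻¹ = v := by
  classical
  have := Fintype.ofFinite f.ker
  let σ : Equiv.Perm f.ker :=
    ⟨fun q => ⟨v * q * u⁻¹, by rw [MonoidHom.mem_ker, map_mul, map_mul, q.2, map_inv, e]; group⟩,
      fun q => ⟨v⁻¹ * q * u, by rw [MonoidHom.mem_ker, map_mul, map_mul, q.2, map_inv, e]; group⟩,
      fun q => Subtype.ext (by simp only; group), fun q => Subtype.ext (by simp only; group)⟩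
  have h : ∀ (n : ℕ) (q : f.ker), ((σ ^ n) q : A) = v ^ n * q * (u ^ n)⁻¹ := fun n q => by
    induction n with
    | zero => simp
    | succ n ih =>
      rw [pow_succ', Equiv.Perm.mul_apply]
      change v * ((σ ^ n) q : A) * u⁻¹ = _
      rw [ih]; group
  obtain ⟨q, hq⟩ := Equiv.Perm.exists_fixed_point_of_prime (p := p) (n := 1) (σ := σ) (by rwa [← Nat.card_eq_fintype_card])
    (Equiv.ext fun q => Subtype.ext (by rw [pow_one, h, hu, hv]; simp))
  have h1 : v * q * u⁻¹ = q := congrArg Subtype.val hq
  exact ⟨q, by rw [mul_inv_eq_iff_eq_mul, ← mul_inv_eq_iff_eq_mul.1 h1]⟩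

variable {G : Type*} [Group G] [Finite G] {Q R : Subgroup G} {z s : G}
  {π : centralizer ({z} : Set G) →* Cfsg.Spor.Co1} {r : Λ → G} {b : centralizer ({z} : Set G)}

/-- A change of signs lifts to an involution. -/
theorem MData.exists_sign (h : MData Q z π r) (hw : ∃ g : G, g * z * g⁻¹ ∈ Q ∧ g * z * g⁻¹ ≠ z)
    {c : Finset GolayPt} (hc : IsCode c) {i j : GolayPt} (hi : i ∉ c) (hj : j ∈ c) :
    ∃ τ : centralizer ({z} : Set G), τ * τ = 1 ∧ pr (sign c hc) = π τ := by
  have hij : i ≠ j := fun e => hi (e ▸ hj)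
  obtain ⟨g, hg⟩ := isConj_iff.1 (h.isConj_of_type_four hw (Eqv.rfl' _ _) (nm_e8 none))
  have hp := h.pair (g := g) (hg ▸ h.r_mem _) (hg ▸ (h.ne_of_eqv (Eqv.rfl' _ _) (nm_e8 none).le (by rw [nm_e8]; decide)).2)
  have hs : Eqv z (g * z * g⁻¹) (r (e8 none)) := hg ▸ Eqv.rfl' _ _
  obtain ⟨y, hy, e⟩ : pr (sign c hc) ∈ _ := (h.img_eq hp hs).1 ▸ mem_map_of_mem _ (mem_Sgn.2 ⟨c, hc, rfl⟩)
  replace hy : (y : G) ∈ _ := mem_subgroupOf.1 hy
  have hx := h.v44_mem hp hs hij (Eqv.rfl' _ _)
  have hxx := (h.sq_iff (v44 i j 1 1)).2 (by rw [nm_v44 hij])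
  rcases hp.esR.sq _ hy with e1 | e1
  · exact ⟨y, Subtype.ext e1, e.symm⟩
  have h1 := (hp.esR.comm _ hx _ hy).resolve_left fun e2 => by
    have h2 := (h.cg_of_comm (Eqv.rfl' _ _) e2 e.symm).eq_or_neg (by rw [nm_smul, nm_v44 hij]; decide)
      (by rw [nm_v44 hij]; decide)
    rcases h2 with e3 | e3
    · have := congrFun (congrArg Subtype.val e3) j
      rw [sign_apply, v44_apply] at this
      simp [hj, hij.symm] at this
    · have := congrFun (congrArg Subtype.val e3) i
      rw [sign_apply, AddSubgroup.coe_neg, Pi.neg_apply, v44_apply] at this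
      simp [hi, hij] at this
  let x : centralizer ({z} : Set G) := ⟨r (v44 i j 1 1), mem_centralizer_singleton.2 (h.es.z_comm _ (h.r_mem _))⟩
  refine ⟨y * x, Subtype.ext ?_, by rw [map_mul, (h.ker x).2 (h.r_mem _), mul_one, e]⟩
  change y * r (v44 i j 1 1) * (y * r (v44 i j 1 1)) = 1
  rw [mul_assoc, ← mul_assoc (r _), h1, mul_assoc, mul_assoc (y : G), hxx, mul_one, ← e1, ← mul_assoc, ← mul_assoc,
    mul_assoc ((y : G) * y), e1, hp.esR.z_sq]

namespace Std7

variable (S : Std7 Q R z s π r b)
include S

theorem conj {u v : centralizer ({z} : Set G)} (hu : u ^ 7 = 1) (hv : v ^ 7 = 1) (e : π u = π v) :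
    ∃ q, q * u * q⁻¹ = v := by
  have : Fact (Nat.Prime 7) := ⟨by norm_num⟩
  refine exists_conj_of_map_eq π ?_ hu hv e
  rw [← card_map_of_injective (centralizer ({z} : Set G)).subtype_injective,
    show π.ker.map (centralizer ({z} : Set G)).subtype = Q from Subgroup.ext fun q => ⟨fun ⟨y, hy, e⟩ =>
      e ▸ (S.h.ker y).1 hy, fun hq => ⟨⟨q, mem_centralizer_singleton.2 (S.h.es.z_comm q hq)⟩, (S.h.ker _).2 hq, rfl⟩⟩,
    S.h.card]
  norm_num

omit [Finite G] in
theorem pow7 : b ^ 7 = 1 := by rw [← S.ord, orderOf_coe]; exact pow_orderOf_eq_one b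

theorem exists_sq : ∃ y : G, y * b * y⁻¹ = b ^ 2 := by
  obtain ⟨σ, hσ⟩ := c7_sq
  obtain ⟨x, hx⟩ := S.h.exists_lift (perm σ)
  obtain ⟨q, hq⟩ := S.conj (u := x * b * x⁻¹) (v := b ^ 2) (by rw [conj_pow, S.pow7]; group)
    (by rw [← pow_mul, mul_comm, pow_mul, S.pow7, one_pow])
    (by simp only [map_mul, map_inv, map_pow, ← hx, ← S.hβ]; simp only [← map_mul, ← map_inv, ← map_pow, hσ])
  exact ⟨(q * x : centralizer ({z} : Set G)), by rw [← coe_pow, ← hq]; push_cast; group⟩

theorem exists_inv : ∃ t : G, t * t = 1 ∧ t * b * t⁻¹ = (b : G)⁻¹ := by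
  obtain ⟨k, c, hc, h0, h1, e⟩ := c7_inv
  obtain ⟨g, -, hg⟩ := S.hp.conj
  obtain ⟨τ, h2, h3⟩ := (S.h.remark k).exists_sign ⟨g, hg ▸ S.hp.s_mem, hg ▸ S.hp.ne.symm⟩ hc h0 h1
  have h4 : π τ * π b * π τ * π b = 1 := by
    have := congrArg pr e
    simp only [map_mul, map_inv, h3, S.hβ, map_one] at this
    change (pr k)⁻¹ * π τ * (pr k)⁻¹⁻¹ * _ * ((pr k)⁻¹ * π τ * (pr k)⁻¹⁻¹) * _ = 1 at this
    rw [← conj_eq_one_iff (a := (pr k)⁻¹), ← this]; group
  have h5 : τ⁻¹ = τ := inv_eq_of_mul_eq_one_right h2
  have h6 : π (τ * b⁻¹ * τ * b) = π b ^ 2 := by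
    have : π τ * (π b)⁻¹ * π τ = π b := by
      rw [← eq_inv_of_mul_eq_one_left h4]
      calc _ = π (τ * τ) * π b * π (τ * τ) := by simp only [map_mul, mul_assoc]
        _ = _ := by rw [h2, map_one, mul_one, one_mul]
    rw [map_mul, map_mul, map_mul, map_inv, this, sq]
  have h7 : π b ^ 7 = 1 := by rw [← map_pow, S.pow7, map_one]
  have h8 : ((τ * b⁻¹ * τ * b) ^ 7) ^ 4 = 1 := Subtype.ext (S.h.es.aes.pow_four ((S.h.ker _).1 (by
    rw [map_pow, h6, ← pow_mul, mul_comm, pow_mul, h7, one_pow])))
  obtain ⟨q, hq⟩ := S.conj (u := (τ * b⁻¹ * τ * b) ^ 4) (v := b) (by rwa [← pow_mul, mul_comm, pow_mul]) S.pow7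
    (by rw [map_pow, h6, ← pow_mul, pow_succ, h7, one_mul])
  have h9 : τ * (τ * b⁻¹ * τ * b) * τ⁻¹ = (τ * b⁻¹ * τ * b)⁻¹ := by
    simp only [mul_inv_rev, inv_inv, h5, ← mul_assoc, h2, one_mul]
  refine ⟨(q * τ * q⁻¹ : centralizer ({z} : Set G)), ?_, ?_⟩
  · rw [← coe_mul, conj_mul, h2]; simp
  · have : q * τ * q⁻¹ * b * (q * τ * q⁻¹)⁻¹ = b⁻¹ := by
      conv_lhs => enter [1, 2]; rw [← hq]
      conv_rhs => rw [← hq]
      calc _ = q * (τ * (τ * b⁻¹ * τ * b) ^ 4 * τ⁻¹) * q⁻¹ := by group
        _ = _ := by rw [← conj_pow, h9, inv_pow, conj_inv]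
    exact congrArg Subtype.val this

omit [Finite G] in
theorem not_inv {c : G} (hz : z * c = c * z) (hs : s * c = c * s) : c * b * c⁻¹ ≠ (b : G)⁻¹ := fun e => by
  let c' : centralizer ({z} : Set G) := ⟨c, mem_centralizer_singleton.2 hz⟩
  obtain ⟨g, hg⟩ := pr_surjective (π c')
  refine not_inverts_Mon (mem_Mon_of_cg (S.h.cg_of_comm S.hs (x := c') hs hg)) ?_
  rw [hg, S.hβ, ← map_mul, ← map_mul]; congr 1
  exact Subtype.ext (by
    change b * c * b = c
    rw [mul_assoc, mul_inv_eq_iff_eq_mul.1 e, mul_inv_cancel_left])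

theorem relIndex_eq : (CB (b : G)).relIndex (normalizer (zpowers (b : G) : Set G)) = 6 := by
  have hb : ∀ n : ℕ, (b : G) ^ n = 1 ↔ 7 ∣ n := fun n => by rw [← S.ord, orderOf_dvd_iff_pow_eq_one]
  have key : ∀ (y : G) (p k : ℕ), p.Prime → y * b * y⁻¹ = b ^ k → ¬ 7 ∣ k + 6 → 7 ∣ k ^ p + 6 →
      p ∣ (CB (b : G)).relIndex (normalizer (zpowers (b : G) : Set G)) := fun y p k hp e h1 h2 => by
    have := Fact.mk hp
    have hy : y ∈ normalizer (zpowers (b : G) : Set G) := MB.mem_normalizer_zpowers_iff.2 (e ▸ npow_mem_zpowers _ _)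
    have h3 : ∀ n : ℕ, y ^ n * b * (y ^ n)⁻¹ = b ^ k ^ n := fun n => by
      induction n with
      | zero => simp
      | succ n ih => rw [pow_succ' k, pow_mul, ← e, conj_pow, ← ih]; group
    have h4 : ∀ n : ℕ, (zpowers (b : G)).normalizerMonoidHom ⟨y, hy⟩ ^ n = 1 ↔ 7 ∣ k ^ n + 6 := fun n => by
      rw [← map_pow, ← MonoidHom.mem_ker, normalizerMonoidHom_ker, mem_subgroupOf, mem_CB, ← hb, coe_pow, pow_add, ← h3,
        ← mul_left_inj (a := (b : G)) (c := 1), mul_assoc (_ * _), ← pow_succ, (hb 7).2 dvd_rfl, one_mul, mul_one,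
        mul_inv_eq_iff_eq_mul, eq_comm]
    rw [relIndex, ← normalizerMonoidHom_ker, index_ker,
      ← orderOf_eq_prime ((h4 p).2 h2) fun e => h1 (pow_one k ▸ (h4 1).1 (by rw [e, one_pow]))]
    exact orderOf_dvd_natCard _ ⟨_, rfl⟩
  obtain ⟨y, hy⟩ := S.exists_sq
  obtain ⟨t, -, ht⟩ := S.exists_inv
  have h2 := key t 2 6 (by norm_num) (ht.trans (inv_eq_of_mul_eq_one_left (by rw [← pow_succ, hb]))) (by norm_num)
    (by norm_num)
  have h3 := key y 3 2 (by norm_num) hy (by norm_num) (by norm_num)
  refine Nat.dvd_antisymm ?_ (Nat.Coprime.mul_dvd_of_dvd_of_dvd (by norm_num) h2 h3)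
  rw [relIndex, ← normalizerMonoidHom_ker, index_ker]
  have := card_subgroup_dvd_card (zpowers (b : G)).normalizerMonoidHom.range
  rwa [IsCyclic.card_mulAut, Nat.card_zpowers, S.ord] at this

theorem mem_layer {x : G} (hx : x ∈ CB (b : G)) (h2 : x * x = 1) :
    x ∈ (layer (CB (b : G))).map (CB (b : G)).subtype := by
  have hc : (zpowers (b : G)).subgroupOf (CB (b : G)) ≤ center _ := fun a ha =>
    mem_center_iff.2 fun y => Subtype.ext (mem_centralizer_iff.1 y.2 _ ha).symm
  have hn : ((zpowers (b : G)).subgroupOf (CB (b : G))).Normal :=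
    ⟨fun a ha g => by rwa [mem_center_iff.1 (hc ha), mul_inv_cancel_right]⟩
  obtain ⟨e⟩ := S.iso_He ker_mk_subgroupOf (QuotientGroup.mk'_surjective ((zpowers (b : G)).subgroupOf (CB (b : G))))
  have h1 := GT.map_layer_of_ker_le_center (f := e.toMonoidHom.comp (QuotientGroup.mk' _))
    (e.surjective.comp (QuotientGroup.mk'_surjective _)) fun a ha =>
      hc ((ker_mk_subgroupOf a).1 (e.injective (ha.trans (map_one e).symm)))
  rw [GT.layer_eq_top_of_isQuasisimple (G := Cfsg.Spor.He) (IsQuasisimple.of_isSimpleGroup fun h => by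
    have := (Group.is_simple_iff_prime_card (α := Cfsg.Spor.He)).1 inferInstance
    rw [MHe.card] at this
    norm_num at this)] at h1
  obtain ⟨l, hl, e1⟩ := h1.ge (mem_top (e (QuotientGroup.mk' _ ⟨x, hx⟩)))
  obtain ⟨n, hn⟩ := (ker_mk_subgroupOf (B := zpowers (b : G)) (l⁻¹ * ⟨x, hx⟩)).1 (by
    rw [map_mul, map_inv, show QuotientGroup.mk' _ l = _ from e.injective e1, inv_mul_cancel])
  refine ⟨l ^ 7, pow_mem hl 7, ?_⟩
  have h3 : (l : G) = x * ((b : G) ^ n)⁻¹ := by
    rw [show (b : G) ^ n = (l : G)⁻¹ * x from hn]; group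
  have h4 : Commute x (b : G) := (mem_CB.1 hx).symm
  change (l : G) ^ 7 = x
  rw [h3, (h4.zpow_right n).inv_right.mul_pow, inv_pow, ← zpow_natCast ((b : G) ^ n), ← zpow_mul, mul_comm n, zpow_mul,
    zpow_natCast, ← coe_pow, S.pow7, coe_one, one_zpow, inv_one, mul_one, pow_succ, pow_mul x 2 3, sq, h2, one_pow, one_mul]

end Std7

end Cfsg.Agent.Spor.MT
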